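import Cfsg.Agent.Lib.Coprime.Generation
import Cfsg.Agent.Lib.Inv59.FixEq

/-!
# Generic lemmas for the Klinger–Mason argument
-/

set_option autoImplicit false

namespace Cfsg.Agent.Lib.TwoPType

open Subgroup
open scoped commutatorElement

universe u

variable {G : Type u} [Group G]

theorem orderOf_eq_two {v : G} (h : v * v = 1) (h1 : v ≠ 1) : orderOf v = 2 :=
  orderOf_eq_prime (by rw [pow_two]; exact h) h1

theorem inv_eq_self {v : G} (h : v * v = 1) : v⁻¹ = v := inv_eq_of_mul_eq_one_left h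

theorem commute_iff_conj {a x : G} : Commute a x ↔ a * x * a⁻¹ = x := by
  constructor
  · intro h; rw [h.eq]; group
  · intro h; exact mul_inv_eq_iff_eq_mul.mp h

theorem mem_centralizer_singleton {a x : G} : x ∈ centralizer ({a} : Set G) ↔ Commute a x := by
  rw [mem_centralizer_iff]
  exact ⟨fun h => h a rfl, fun h y hy => by rw [Set.mem_singleton_iff.mp hy]; exact h.eq⟩

theorem conj_mem_of_mem_normalizer {N : Subgroup G} {a x : G} (ha : a ∈ normalizer (N : Set G))
    (hx : x ∈ N) : a * x * a⁻¹ ∈ N :=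
  (mem_normalizer_iff.mp ha x).mp hx

theorem mem_normalizer_of_forall [Finite G] {N : Subgroup G} {a : G}
    (h : ∀ x ∈ N, a * x * a⁻¹ ∈ N) : a ∈ normalizer (N : Set G) :=
  mem_normalizer_fintype h

theorem odd_of_isPGroup [Finite G] {p : ℕ} [hp : Fact p.Prime] (hp2 : p ≠ 2) {K : Subgroup G}
    (h : IsPGroup p K) : Odd (Nat.card K) := by
  obtain ⟨n, hn⟩ := IsPGroup.iff_card.mp h
  rw [hn]
  exact (hp.out.odd_of_ne_two hp2).pow

theorem eq_one_of_sq {K : Subgroup G} (hodd : Odd (Nat.card K)) {x : G} (hx : x ∈ K)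
    (h : x * x = 1) : x = 1 := by
  have : Finite K := Nat.finite_of_card_ne_zero (fun h0 => by simp [h0] at hodd)
  exact congrArg Subtype.val (Inv59.FixEq.eq_one_of_sq (H := K) hodd (v := ⟨x, hx⟩) (Subtype.ext h))

/-- If an involution `v` of the normaliser of a group `P` of odd order centralises `D` and
`C_P(D) ≤ D` for `D = C_P(v)`, it centralises `P`. -/
theorem centralizes_of_centralizer_le [Finite G] {p : ℕ} [Fact p.Prime] (hp2 : p ≠ 2)
    {P : Subgroup G} (hP : IsPGroup p P) {v : G} (hv : v * v = 1)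
    (hvP : v ∈ normalizer (P : Set G))
    (h : ∀ x ∈ P, (∀ d ∈ P, Commute v d → Commute d x) → Commute v x) :
    ∀ x ∈ P, Commute v x := by
  have hvi := inv_eq_self hv
  set D : Subgroup P := (P ⊓ centralizer {v}).subgroupOf P with hD
  have hmemD : ∀ x : P, x ∈ D ↔ Commute v (x : G) := fun x => by
    rw [hD, mem_subgroupOf, mem_inf, mem_centralizer_singleton]
    exact ⟨fun h => h.2, fun h => ⟨x.2, h⟩⟩
  suffices htop : D = ⊤ by
    intro x hx; exact (hmemD ⟨x, hx⟩).mp (htop ▸ mem_top _)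
  by_contra hne
  have hnil : Group.IsNilpotent P := hP.isNilpotent
  have hlt := normalizerCondition_of_isNilpotent D (lt_top_iff_ne_top.mpr hne)
  obtain ⟨x, hxN, hxD⟩ := SetLike.exists_of_lt hlt
  apply hxD
  rw [hmemD]
  set c : G := (x : G)⁻¹ * (v * x * v⁻¹) with hc
  have hcP : c ∈ P := mul_mem (inv_mem x.2) (conj_mem_of_mem_normalizer hvP x.2)
  have hcd : ∀ d ∈ P, Commute v d → Commute d c := by
    intro d hd hdv
    have h1 := (hmemD ⟨d, hd⟩).mpr hdv
    have h2 := (hmemD _).mp ((mem_normalizer_iff.mp hxN _).mp h1)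
    simp only [Subgroup.coe_mul, Subgroup.coe_inv] at h2
    refine Commute.symm (commute_iff_conj.mpr ?_)
    have e1 : v * (x : G) * v⁻¹ * d * (v * (x : G) * v⁻¹)⁻¹ =
        v * ((x : G) * (v⁻¹ * d * v) * (x : G)⁻¹) * v⁻¹ := by group
    have e2 : v⁻¹ * d * v = d := by rw [mul_assoc, ← hdv.eq, inv_mul_cancel_left]
    rw [e2, commute_iff_conj.mp h2] at e1
    rw [hc]
    calc _ = (x : G)⁻¹ * (v * (x : G) * v⁻¹ * d * (v * (x : G) * v⁻¹)⁻¹) * x := by group
      _ = (x : G)⁻¹ * ((x : G) * d * (x : G)⁻¹) * x := by rw [e1]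
      _ = d := by group
  have hvc : Commute v c := h c hcP hcd
  have hcc : c = c⁻¹ := by
    have h0 := commute_iff_conj.mp hvc
    have h1 : v * c * v⁻¹ = c⁻¹ := by
      calc v * c * v⁻¹ = v * (x : G)⁻¹ * v * (x : G) * (v⁻¹ * v⁻¹) := by rw [hc]; group
        _ = v * (x : G)⁻¹ * v⁻¹ * (x : G) := by rw [hvi, hv, mul_one]
        _ = c⁻¹ := by rw [hc]; group
    exact h0.symm.trans h1
  have hc1 : c = 1 := eq_one_of_sq (odd_of_isPGroup hp2 hP) hcP (by
    nth_rw 1 [hcc]; exact inv_mul_cancel c)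
  refine commute_iff_conj.mpr ?_
  rw [hc, inv_mul_eq_one] at hc1
  exact hc1.symm

/-- For commuting involutions `v`, `z` acting on `R` of odd order with `C_R(z) ≤ C_R(v)`, every
element inverted by `v` is inverted by `z`. -/
theorem inverted_of_fixed_le {R : Subgroup G} (hodd : Odd (Nat.card R)) {v z : G}
    (hz : z * z = 1) (hzR : z ∈ normalizer (R : Set G)) (hvz : Commute v z)
    (hfix : ∀ x ∈ R, Commute z x → Commute v x) {i : G} (hiR : i ∈ R)
    (hi : v * i * v⁻¹ = i⁻¹) : z * i * z⁻¹ = i⁻¹ := by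
  have : Finite R := Nat.finite_of_card_ne_zero (fun h0 => by simp [h0] at hodd)
  obtain ⟨k, hk⟩ := Inv59.FixEq.exists_sqrt (H := R) hodd
  set g := MulAut.conj z with hg
  set f := MulAut.conj v with hf
  have hgg : ∀ x, g (g x) = x := fun x => by
    simp only [hg, MulAut.conj_apply, inv_eq_self hz]
    rw [← mul_assoc, ← mul_assoc, hz, one_mul, mul_assoc, hz, mul_one]
  have hfg : ∀ x, f (g x) = g (f x) := fun x => by
    rw [hf, hg, ← MulAut.mul_apply, ← MulAut.mul_apply, ← map_mul, ← map_mul, hvz.eq]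
  have hgi : g i ∈ R := conj_mem_of_mem_normalizer hzR hiR
  set m := (i⁻¹ * g i) ^ k with hm
  have hmR : m ∈ R := pow_mem (mul_mem (inv_mem hiR) hgi) k
  have hmm : m * m = i⁻¹ * g i :=
    congrArg Subtype.val (hk ⟨i⁻¹ * g i, mul_mem (inv_mem hiR) hgi⟩)
  set c := i * m with hc
  have hw : g i = c * i⁻¹ * c := by
    rw [hc]
    calc g i = i * (m * m) := by rw [hmm]; group
      _ = _ := by group
  have hgm : g m = m⁻¹ := by
    rw [hm, map_pow, map_mul, map_inv, hgg, ← inv_pow, mul_inv_rev, inv_inv]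
  have hgc : g c = c := by
    rw [hc, map_mul, hgm]
    calc g i * m⁻¹ = i * (m * m) * m⁻¹ := by rw [hmm]; group
      _ = i * m := by group
  have hcR : c ∈ R := mul_mem hiR hmR
  have hfc : f c = c := commute_iff_conj.mp (hfix c hcR (commute_iff_conj.mpr hgc))
  clear_value c
  have hfi : f i = i⁻¹ := hi
  have h1 : f (g i) = (g i)⁻¹ := by rw [hfg, hfi, map_inv]
  rw [hw, map_mul, map_mul, map_inv, hfi, hfc, inv_inv] at h1
  replace h1 : c * i * c = c⁻¹ * i * c⁻¹ := h1.trans (by group)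
  have h2 : i⁻¹ * (c * c) * i = (c * c)⁻¹ := by
    calc i⁻¹ * (c * c) * i = i⁻¹ * c * (c * i * c) * c⁻¹ := by group
      _ = i⁻¹ * c * (c⁻¹ * i * c⁻¹) * c⁻¹ := by rw [h1]
      _ = _ := by group
  have h3 : Commute (i * i) (c * c) := by
    show i * i * (c * c) = c * c * (i * i)
    have h4 : (i * i)⁻¹ * (c * c) * (i * i) = c * c := by
      calc _ = i⁻¹ * (i⁻¹ * (c * c) * i) * i := by group
        _ = i⁻¹ * (c * c)⁻¹ * i := by rw [h2]
        _ = (i⁻¹ * (c * c) * i)⁻¹ := by group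
        _ = c * c := by rw [h2, inv_inv]
    calc i * i * (c * c) = i * i * ((i * i)⁻¹ * (c * c) * (i * i)) := by rw [h4]
      _ = _ := by group
  have hki : i ^ k * i ^ k = i := congrArg Subtype.val (hk ⟨i, hiR⟩)
  have h4 : Commute i (c * c) := by
    have := h3.pow_left k
    rwa [(Commute.refl i).mul_pow, hki] at this
  have h5 : c * c = (c * c)⁻¹ := by
    rw [← h2, mul_assoc, ← h4.eq, inv_mul_cancel_left]
  have h6 : c * c = 1 := eq_one_of_sq hodd (mul_mem hcR hcR) (by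
    nth_rw 1 [h5]
    exact inv_mul_cancel _)
  show g i = i⁻¹
  rw [hw, eq_one_of_sq hodd hcR h6, one_mul, mul_one]

/-- In a group of odd order normalised by an involution `v` every element is a fixed one times an
inverted one. -/
theorem exists_fixed_mul_inverted {R : Subgroup G} (hodd : Odd (Nat.card R)) {v : G}
    (hv : v * v = 1) (hvR : v ∈ normalizer (R : Set G)) {r : G} (hr : r ∈ R) :
    ∃ d ∈ R, ∃ m ∈ R, Commute v d ∧ v * m * v⁻¹ = m⁻¹ ∧ r = d * m := by
  have : Finite R := Nat.finite_of_card_ne_zero (fun h0 => by simp [h0] at hodd)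
  obtain ⟨k, hk⟩ := Inv59.FixEq.exists_sqrt (H := R) hodd
  have hvi := inv_eq_self hv
  set f := MulAut.conj v with hf
  have hff : ∀ x, f (f x) = x := fun x => by
    simp only [hf, MulAut.conj_apply, hvi]
    rw [← mul_assoc, ← mul_assoc, hv, one_mul, mul_assoc, hv, mul_one]
  have hfr : f r ∈ R := conj_mem_of_mem_normalizer hvR hr
  set m := ((f r)⁻¹ * r) ^ k with hm
  have hmR : m ∈ R := pow_mem (mul_mem (inv_mem hfr) hr) k
  have hmm : m * m = (f r)⁻¹ * r :=
    congrArg Subtype.val (hk ⟨_, mul_mem (inv_mem hfr) hr⟩)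
  have hfm : f m = m⁻¹ := by
    rw [hm, map_pow, map_mul, map_inv, hff, ← inv_pow, mul_inv_rev, inv_inv]
  refine ⟨r * m⁻¹, mul_mem hr (inv_mem hmR), m, hmR, commute_iff_conj.mpr ?_, hfm, by group⟩
  show f (r * m⁻¹) = r * m⁻¹
  rw [map_mul, map_inv, hfm, inv_inv]
  calc f r * m = f r * (m * m) * m⁻¹ := by group
    _ = r * m⁻¹ := by rw [hmm]; group

/-- Two commuting involutions acting on a group of odd order with the same fixed points agree. -/
theorem conj_eq_of_fixed_eq {R : Subgroup G} (hodd : Odd (Nat.card R)) {v z : G}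
    (hv : v * v = 1) (hvR : v ∈ normalizer (R : Set G))
    (hz : z * z = 1) (hzR : z ∈ normalizer (R : Set G)) (hvz : Commute v z)
    (hfix : ∀ x ∈ R, (Commute z x ↔ Commute v x)) {r : G} (hr : r ∈ R) :
    z * r * z⁻¹ = v * r * v⁻¹ := by
  obtain ⟨d, hd, m, hm, hdv, hmv, rfl⟩ := exists_fixed_mul_inverted hodd hv hvR hr
  have h1 := inverted_of_fixed_le hodd hz hzR hvz (fun x hx => (hfix x hx).mp) hm hmv
  have h2 := commute_iff_conj.mp ((hfix d hd).mpr hdv)
  calc z * (d * m) * z⁻¹ = (z * d * z⁻¹) * (z * m * z⁻¹) := by group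
    _ = (v * d * v⁻¹) * (v * m * v⁻¹) := by rw [h1, h2, commute_iff_conj.mp hdv, hmv]
    _ = _ := by group

/-- If `C_R(z) ≤ C_R(v)` and `u` centralises `C_R(v)` and commutes with `v`, then `u` and `z`
commute on `R`. -/
theorem conj_comm_of_fixed_le {R : Subgroup G} (hodd : Odd (Nat.card R)) {v z u : G}
    (hv : v * v = 1) (hvR : v ∈ normalizer (R : Set G))
    (hz : z * z = 1) (hzR : z ∈ normalizer (R : Set G)) (hvz : Commute v z)
    (hfix : ∀ x ∈ R, Commute z x → Commute v x)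
    (huR : u ∈ normalizer (R : Set G)) (huv : Commute u v)
    (hu : ∀ x ∈ R, Commute v x → Commute u x) {r : G} (hr : r ∈ R) :
    (z * u) * r * (z * u)⁻¹ = (u * z) * r * (u * z)⁻¹ := by
  obtain ⟨d, hd, m, hm, hdv, hmv, rfl⟩ := exists_fixed_mul_inverted hodd hv hvR hr
  have hzd : Commute v (z * d * z⁻¹) :=
    Commute.mul_right (Commute.mul_right hvz hdv) hvz.inv_right
  have e1 := commute_iff_conj.mp (hu d hd hdv)
  have e2 := commute_iff_conj.mp (hu _ (conj_mem_of_mem_normalizer hzR hd) hzd)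
  have hum : v * (u * m * u⁻¹) * v⁻¹ = (u * m * u⁻¹)⁻¹ := by
    calc _ = (v * u) * m * (u⁻¹ * v⁻¹) := by group
      _ = (u * v) * m * (u * v)⁻¹ := by rw [huv.eq]; group
      _ = u * (v * m * v⁻¹) * u⁻¹ := by group
      _ = _ := by rw [hmv]; group
  have e3 := inverted_of_fixed_le hodd hz hzR hvz hfix (conj_mem_of_mem_normalizer huR hm) hum
  have e4 := inverted_of_fixed_le hodd hz hzR hvz hfix hm hmv
  calc (z * u) * (d * m) * (z * u)⁻¹ = z * (u * d * u⁻¹) * z⁻¹ * (z * (u * m * u⁻¹) * z⁻¹) := by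
        group
    _ = u * (z * d * z⁻¹) * u⁻¹ * (u * (z * m * z⁻¹) * u⁻¹) := by rw [e1, e2, e3, e4]; group
    _ = _ := by group

/-- An involution that moves a `p`-group inverts an element of order `p` in it. -/
theorem exists_inverted [Finite G] {p : ℕ} [hp : Fact p.Prime] {K : Subgroup G} (hK : IsPGroup p K)
    {f : G} (hf : f * f = 1) (hfK : f ∈ normalizer (K : Set G)) {x : G} (hx : x ∈ K)
    (hne : ¬ Commute f x) : ∃ a ∈ K, orderOf a = p ∧ f * a * f⁻¹ = a⁻¹ := by
  set c := x⁻¹ * (f * x * f⁻¹) with hc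
  have hcK : c ∈ K := mul_mem (inv_mem hx) (conj_mem_of_mem_normalizer hfK hx)
  have hc1 : c ≠ 1 := fun h => hne (commute_iff_conj.mpr (inv_mul_eq_one.mp h).symm)
  have hfc : f * c * f⁻¹ = c⁻¹ := by
    calc f * c * f⁻¹ = f * x⁻¹ * f * x * (f⁻¹ * f⁻¹) := by rw [hc]; group
      _ = f * x⁻¹ * f⁻¹ * x := by rw [inv_eq_self hf, hf, mul_one]
      _ = c⁻¹ := by rw [hc]; group
  obtain ⟨k, hk⟩ := hK ⟨c, hcK⟩
  have hck : c ^ p ^ k = 1 := congrArg Subtype.val hk
  obtain ⟨j, -, hj⟩ := (Nat.dvd_prime_pow hp.out).mp (orderOf_dvd_of_pow_eq_one hck)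
  have hj0 : j ≠ 0 := fun h => hc1 (orderOf_eq_one_iff.mp (by rw [hj, h, pow_zero]))
  refine ⟨c ^ p ^ (j - 1), pow_mem hcK _, ?_, ?_⟩
  · rw [orderOf_pow' _ (pow_ne_zero _ hp.out.ne_zero), hj,
      Nat.gcd_eq_right (pow_dvd_pow p (Nat.sub_le j 1)), Nat.pow_div (Nat.sub_le j 1) hp.out.pos]
    conv_lhs => rw [show j - (j - 1) = 1 by omega, pow_one]
  · rw [← conj_pow, hfc, inv_pow]

/-- `⁅X, B⁆` centralises `k` when `B` centralises `k` and the commutators of `X` with `k`. -/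
theorem commutator_le_centralizer {X B : Subgroup G} {k : G} (hB : ∀ b ∈ B, Commute b k)
    (hBX : B ≤ normalizer (X : Set G))
    (hc : ∀ x ∈ X, ∀ b ∈ B, Commute b (k * x * k⁻¹ * x⁻¹)) :
    ⁅X, B⁆ ≤ centralizer ({k} : Set G) := by
  rw [commutator_le]
  intro x hx b hb
  rw [mem_centralizer_singleton]
  have hkb := commute_iff_conj.mp (hB b hb).symm
  set c := k * x⁻¹ * k⁻¹ * x with hcdef
  have hcb : b * c * b⁻¹ = c := commute_iff_conj.mp (by
    have := hc x⁻¹ (inv_mem hx) b hb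
    rwa [inv_inv] at this)
  refine commute_iff_conj.mpr ?_
  have e1 : k * x * k⁻¹ = x * c⁻¹ := by rw [hcdef]; group
  calc k * ⁅x, b⁆ * k⁻¹ = (k * x * k⁻¹) * (k * b * k⁻¹) * (k * x * k⁻¹)⁻¹ * (k * b * k⁻¹)⁻¹ := by
        rw [commutatorElement_def]; group
    _ = x * c⁻¹ * (b * c * b⁻¹) * b * x⁻¹ * b⁻¹ := by rw [hkb, e1]; group
    _ = ⁅x, b⁆ := by rw [hcb, commutatorElement_def]; group

/-- If `b` centralises `k` and the commutators of `X` with `k`, and `C_X(b)` centralises `k`,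
then `X` centralises `k`. -/
theorem centralizes_of_fixed [Finite G] {X : Subgroup G} {b k : G}
    (hbX : b ∈ normalizer (X : Set G)) (hcop : (orderOf b).Coprime (Nat.card X))
    (hbk : Commute b k) (hc : ∀ x ∈ X, Commute b (k * x * k⁻¹ * x⁻¹))
    (hC : ∀ x ∈ X, Commute b x → Commute k x) : ∀ x ∈ X, Commute k x := by
  intro x hx
  have hzX : zpowers b ≤ normalizer (X : Set G) := zpowers_le.mpr hbX
  have hall : ∀ {g : G}, Commute b g → ∀ a ∈ zpowers b, Commute a g := by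
    rintro g hg _ ⟨n, rfl⟩; exact hg.zpow_left n
  obtain ⟨n, hn, c, hc', rfl⟩ := Coprime.exists_commutator_mul_fixed hzX
    (by rwa [Nat.card_zpowers]) (Or.inl (Coprime.isSolvable_zpowers b)) hx
  have h1 : Commute k n := mem_centralizer_singleton.mp
    (commutator_le_centralizer (hall hbk) hzX (fun y hy => hall (hc y hy)) hn)
  have h2 : Commute k c := hC c (mem_inf.mp hc').1
    (mem_centralizer_iff.mp (mem_inf.mp hc').2 b (mem_zpowers b))
  exact h1.mul_right h2

/-- Rank bookkeeping: adjoining an element of order `p`. -/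
theorem elementary_sup_zpowers [Finite G] {p : ℕ} [hp : Fact p.Prime] {A : Subgroup G}
    (hAc : IsMulCommutative A) (hAp : ∀ a ∈ A, a ^ p = 1) {x : G} (hx : x ^ p = 1) (hxA : x ∉ A)
    (hcomm : ∀ a ∈ A, Commute x a) :
    IsMulCommutative ↥(A ⊔ zpowers x) ∧ (∀ a ∈ A ⊔ zpowers x, a ^ p = 1) ∧
      Nat.card A * p ≤ Nat.card ↥(A ⊔ zpowers x) := by
  have hgen : A ⊔ zpowers x = closure ((A : Set G) ∪ {x}) := by
    rw [Subgroup.closure_union, Subgroup.closure_eq, zpowers_eq_closure]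
  have hc : IsMulCommutative ↥(A ⊔ zpowers x) := by
    rw [hgen]
    refine isMulCommutative_closure ?_
    rintro a (ha | ha) b (hb | hb)
    · exact congrArg Subtype.val (hAc.is_comm.comm ⟨a, ha⟩ ⟨b, hb⟩)
    · rw [Set.mem_singleton_iff.mp hb]; exact (hcomm a ha).eq.symm
    · rw [Set.mem_singleton_iff.mp ha]; exact (hcomm b hb).eq
    · rw [Set.mem_singleton_iff.mp ha, Set.mem_singleton_iff.mp hb]
  have hexp : ∀ a ∈ A ⊔ zpowers x, a ^ p = 1 := by
    intro a ha
    rw [hgen] at ha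
    induction ha using closure_induction with
    | mem y hy =>
      rcases hy with hy | hy
      · exact hAp y hy
      · rw [Set.mem_singleton_iff.mp hy]; exact hx
    | one => exact one_pow p
    | mul y z hy hz hy' hz' =>
      rw [← hgen] at hy hz
      rw [Commute.mul_pow (congrArg Subtype.val (hc.is_comm.comm ⟨y, hy⟩ ⟨z, hz⟩)), hy', hz',
        one_mul]
    | inv y _ hy' => rw [inv_pow, hy', inv_one]
  refine ⟨hc, hexp, ?_⟩
  have hpA : IsPGroup p A := fun a => ⟨1, Subtype.ext (by simpa using hAp a a.2)⟩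
  have hpB : IsPGroup p ↥(A ⊔ zpowers x) := fun a => ⟨1, Subtype.ext (by simpa using hexp a a.2)⟩
  obtain ⟨i, hi⟩ := IsPGroup.iff_card.mp hpA
  obtain ⟨j, hj⟩ := IsPGroup.iff_card.mp hpB
  have hlt : Nat.card A < Nat.card ↥(A ⊔ zpowers x) := by
    refine lt_of_le_of_ne (card_le_of_le le_sup_left) fun h => hxA ?_
    rw [Subgroup.eq_of_le_of_card_ge le_sup_left h.ge]
    exact mem_sup_right (mem_zpowers x)
  rw [hi, hj] at hlt ⊢
  rw [← pow_succ]
  exact Nat.pow_le_pow_right hp.out.pos ((Nat.pow_lt_pow_iff_right hp.out.one_lt).mp hlt)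

end Cfsg.Agent.Lib.TwoPType
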