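import Cfsg.Agent.Lib.TwoPType.Structure
import Cfsg.Agent.Lib.Cores.Basic
import Cfsg.Prelude.Def_LocalEven
import Cfsg.Prelude.Def_CaseTheorems
import Cfsg.Prelude.Def_Amalgam

/-!
# Klinger–Mason: no involution of a group of characteristic 2 and `p` type centralises `p^3`
-/

set_option autoImplicit false
set_option linter.unusedSectionVars false

namespace Cfsg.Agent.Lib.TwoPType

open Subgroup
open scoped commutatorElement

universe u

variable {G : Type u} [Group G]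

/-- `O_2(C(z))`. -/
def Qz (z : G) : Subgroup G := Cfsg.pCoreOf 2 (centralizer ({z} : Set G))

/-- `O_p(N(E))`. -/
def Rn (p : ℕ) (E : Subgroup G) : Subgroup G := Cfsg.pCoreOf p (normalizer (E : Set G))

/-- `O_p(N(E)) ∩ C(E)`. -/
def Rc (p : ℕ) (E : Subgroup G) : Subgroup G := Rn p E ⊓ centralizer (E : Set G)

/-- The two local hypotheses. -/
structure Hyp (G : Type u) [Group G] (p : ℕ) : Prop where
  two : ∀ z : G, z * z = 1 → z ≠ 1 → ∀ x : G, Commute z x →
    (∀ q ∈ Qz z, Commute q x) → x ∈ Qz z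
  loc : ∀ E : Subgroup G, IsPGroup p E → E ≠ ⊥ → ∀ x ∈ normalizer (E : Set G),
    (∀ r ∈ Rn p E, Commute r x) → x ∈ Rn p E

variable [Finite G] {p : ℕ} [hp : Fact p.Prime]

theorem pCoreOf_isPGroup (q : ℕ) (H : Subgroup G) : IsPGroup q (Cfsg.pCoreOf q H) :=
  (Cores.pCore_isPGroup q).map H.subtype

theorem conj_mem_pCoreOf {q : ℕ} {H : Subgroup G} {g x : G} (hg : g ∈ H)
    (hx : x ∈ Cfsg.pCoreOf q H) : g * x * g⁻¹ ∈ Cfsg.pCoreOf q H := by
  obtain ⟨y, hy, rfl⟩ := hx
  exact ⟨⟨g, hg⟩ * y * ⟨g, hg⟩⁻¹,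
    (inferInstance : (Cfsg.pCore q H).Normal).conj_mem y hy ⟨g, hg⟩, rfl⟩

theorem Qz_isPGroup (z : G) : IsPGroup 2 (Qz z) := pCoreOf_isPGroup 2 _

theorem commute_of_mem_Qz {z x : G} (hx : x ∈ Qz z) : Commute z x :=
  mem_centralizer_singleton.mp (map_subtype_le _ hx)

theorem conj_mem_Qz {z g x : G} (hg : Commute z g) (hx : x ∈ Qz z) : g * x * g⁻¹ ∈ Qz z :=
  conj_mem_pCoreOf (mem_centralizer_singleton.mpr hg) hx

theorem mem_Qz_self {z : G} (hz : z * z = 1) : z ∈ Qz z := by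
  have hzc : z ∈ centralizer ({z} : Set G) := mem_centralizer_singleton.mpr (Commute.refl z)
  set y : centralizer ({z} : Set G) := ⟨z, hzc⟩ with hy
  have hcen : ∀ g : centralizer ({z} : Set G), g * y = y * g := fun g =>
    Subtype.ext (mem_centralizer_singleton.mp g.2).eq.symm
  have : (zpowers y).Normal := ⟨fun x hx g => by
    obtain ⟨n, rfl⟩ := hx
    rw [(show Commute g (y ^ n) from (show Commute g y from hcen g).zpow_right n).eq,
      mul_inv_cancel_right]
    exact ⟨n, rfl⟩⟩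
  have hpg : IsPGroup 2 (zpowers y) := by
    rintro ⟨x, hx⟩
    obtain ⟨n, rfl⟩ := hx
    refine ⟨1, Subtype.ext (Subtype.ext ?_)⟩
    simp only [pow_one, SubmonoidClass.coe_pow, SubgroupClass.coe_zpow, hy, OneMemClass.coe_one]
    rw [← zpow_natCast, ← zpow_mul, mul_comm, zpow_mul, zpow_natCast, pow_two, hz, one_zpow]
  exact ⟨y, Cores.le_pCore hpg (mem_zpowers y), rfl⟩

theorem Rc_isPGroup (E : Subgroup G) : IsPGroup p (Rc p E) :=
  (pCoreOf_isPGroup p _).to_le inf_le_left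

theorem le_Rc {E : Subgroup G} (hE : IsPGroup p E) (hc : IsMulCommutative E) : E ≤ Rc p E := by
  refine le_inf ?_ (le_centralizer_iff_isMulCommutative.mpr hc)
  intro e he
  have : (E.subgroupOf (normalizer (E : Set G))).Normal := normal_in_normalizer
  exact ⟨⟨e, le_normalizer he⟩, Cores.le_pCore (hE.of_equiv
    (subgroupOfEquivOfLe le_normalizer).symm) he, rfl⟩

theorem mem_normalizer_of_centralizes {E : Subgroup G} {g : G} (hg : ∀ e ∈ E, Commute g e) :
    g ∈ normalizer (E : Set G) := mem_normalizer_of_forall fun e he => by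
  rw [commute_iff_conj.mp (hg e he)]; exact he

theorem mem_normalizer_Rn {E : Subgroup G} {g : G} (hg : ∀ e ∈ E, Commute g e) :
    g ∈ normalizer (Rn p E : Set G) :=
  mem_normalizer_of_forall fun _ hx => conj_mem_pCoreOf (mem_normalizer_of_centralizes hg) hx

theorem mem_normalizer_Rc {E : Subgroup G} {g : G} (hg : ∀ e ∈ E, Commute g e) :
    g ∈ normalizer (Rc p E : Set G) := mem_normalizer_of_forall fun x hx => by
  obtain ⟨h1, h2⟩ := mem_inf.mp hx
  refine mem_inf.mpr ⟨conj_mem_of_mem_normalizer (mem_normalizer_Rn hg) h1,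
    mem_centralizer_iff.mpr fun e he => ?_⟩
  exact ((((hg e he).symm).mul_right (mem_centralizer_iff.mp h2 e he)).mul_right
    (hg e he).symm.inv_right).eq

theorem eq_one_of_two_p (hp2 : p ≠ 2) {K L : Subgroup G} (hK : IsPGroup 2 K) (hL : IsPGroup p L)
    {x : G} (hxK : x ∈ K) (hxL : x ∈ L) : x = 1 := by
  have hd : Disjoint K L := IsPGroup.disjoint_of_ne 2 p (Ne.symm hp2) K L hK hL
  exact mem_bot.mp (hd.le_bot (mem_inf.mpr ⟨hxK, hxL⟩))

theorem card_ge_sq_of_mod {B E : Subgroup G} (hc : IsMulCommutative B)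
    (hexp : ∀ b ∈ B, b ^ p = 1) (hB : p ^ 3 ≤ Nat.card B) (hEB : E ≤ B) {a : G} (ha : a ∈ B)
    (hEa : E ⊔ zpowers a = B) : p ^ 2 ≤ Nat.card E := by
  have hn : zpowers a ≤ normalizer (E : Set G) := by
    rw [zpowers_le]
    exact mem_normalizer_of_centralizes fun x hx =>
      congrArg Subtype.val (hc.is_comm.comm ⟨a, ha⟩ ⟨x, hEB hx⟩)
  have hle : Nat.card (zpowers a) ≤ p := by
    rw [Nat.card_zpowers]
    exact Nat.le_of_dvd hp.out.pos (orderOf_dvd_of_pow_eq_one (hexp a ha))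
  have hcard : Nat.card B ≤ p * Nat.card E := by
    calc Nat.card B = Nat.card ↥(zpowers a ⊔ E) := by rw [sup_comm, hEa]
      _ ≤ Nat.card (zpowers a) * Nat.card E := by
          rw [← SetLike.coe_sort_coe (zpowers a ⊔ E), coe_mul_of_left_le_normalizer_right _ _ hn]
          exact Set.natCard_mul_le
      _ ≤ _ := Nat.mul_le_mul_right _ hle
  have := hB.trans hcard
  rw [pow_succ'] at this
  exact Nat.le_of_mul_le_mul_left this hp.out.pos

theorem eq_one_of_fixed_inverted {K : Subgroup G} (hodd : Odd (Nat.card K)) {f x : G} (hx : x ∈ K)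
    (h1 : Commute f x) (h2 : f * x * f⁻¹ = x⁻¹) : x = 1 :=
  eq_one_of_sq hodd hx (by
    nth_rw 1 [(commute_iff_conj.mp h1).symm.trans h2]
    exact inv_mul_cancel x)

/-- A maximal invariant normal abelian subgroup. -/
theorem exists_selfCentral {P E : Subgroup G} (hP : IsPGroup p P) (hEP : E ≤ P)
    (hEc : IsMulCommutative E) (hE : ∀ e ∈ E, ∀ x ∈ P, Commute e x)
    {f g : G} (hf : f * f = 1) (hg : g * g = 1) (hfg : Commute f g)
    (hfP : f ∈ normalizer (P : Set G)) (hgP : g ∈ normalizer (P : Set G))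
    (hfE : ∀ e ∈ E, Commute f e) (hgE : ∀ e ∈ E, Commute g e) :
    ∃ A : Subgroup G, E ≤ A ∧ A ≤ P ∧ IsMulCommutative A ∧ f ∈ normalizer (A : Set G) ∧
      g ∈ normalizer (A : Set G) ∧ ∀ x ∈ P, (∀ a ∈ A, Commute a x) → x ∈ A := by
  classical
  obtain ⟨A, ⟨hEA, hAP, hAc, hfA, hgA, hPA⟩, hmax⟩ :=
    Set.Finite.exists_maximalFor (id : Subgroup G → Subgroup G)
      {A | E ≤ A ∧ A ≤ P ∧ IsMulCommutative A ∧ f ∈ normalizer (A : Set G) ∧
        g ∈ normalizer (A : Set G) ∧ P ≤ normalizer (A : Set G)} (Set.toFinite _)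
      ⟨E, le_rfl, hEP, hEc, mem_normalizer_of_centralizes hfE, mem_normalizer_of_centralizes hgE,
        fun x hx => mem_normalizer_of_centralizes fun e he => (hE e he x hx).symm⟩
  refine ⟨A, hEA, hAP, hAc, hfA, hgA, ?_⟩
  set C := P ⊓ centralizer (A : Set G) with hCdef
  have hAC : A ≤ C := le_inf hAP (le_centralizer_iff_isMulCommutative.mpr hAc)
  by_contra hne
  push Not at hne
  obtain ⟨x₀, hx₀, hx₀c, hx₀A⟩ := hne
  have hCn : ∀ h : G, h ∈ normalizer (P : Set G) → h ∈ normalizer (A : Set G) →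
      h ∈ normalizer (C : Set G) := fun h hhP hhA => mem_normalizer_of_forall fun x hx => by
    obtain ⟨hxP, hxC⟩ := mem_inf.mp hx
    refine mem_inf.mpr ⟨conj_mem_of_mem_normalizer hhP hxP, mem_centralizer_iff.mpr fun a ha => ?_⟩
    have ha' : h⁻¹ * a * h ∈ A := (mem_normalizer_iff''.mp hhA a).mp ha
    have e : Commute (h⁻¹ * a * h) x := mem_centralizer_iff.mp hxC _ ha'
    calc a * (h * x * h⁻¹) = h * ((h⁻¹ * a * h) * x) * h⁻¹ := by group
      _ = h * (x * (h⁻¹ * a * h)) * h⁻¹ := by rw [e.eq]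
      _ = _ := by group
  -- elements of `C` central modulo `A`
  let D : Subgroup G :=
    { carrier := {x | x ∈ C ∧ ∀ y ∈ P, y * x * y⁻¹ * x⁻¹ ∈ A}
      one_mem' := ⟨one_mem _, fun y _ => by simp⟩
      mul_mem' := fun {a c} ha hc => ⟨mul_mem ha.1 hc.1, fun y hy => by
        have e : y * (a * c) * y⁻¹ * (a * c)⁻¹ =
            (y * a * y⁻¹ * a⁻¹) * (a * (y * c * y⁻¹ * c⁻¹) * a⁻¹) := by group
        rw [e]
        exact mul_mem (ha.2 y hy)
          (conj_mem_of_mem_normalizer (hPA (mem_inf.mp ha.1).1) (hc.2 y hy))⟩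
      inv_mem' := fun {a} ha => ⟨inv_mem ha.1, fun y hy => by
        have e : y * a⁻¹ * y⁻¹ * a⁻¹⁻¹ = a⁻¹ * (y * a * y⁻¹ * a⁻¹)⁻¹ * a⁻¹⁻¹ := by group
        rw [e]
        exact conj_mem_of_mem_normalizer (hPA (inv_mem (mem_inf.mp ha.1).1))
          (inv_mem (ha.2 y hy))⟩ }
  have hDn : ∀ h : G, h ∈ normalizer (P : Set G) → h ∈ normalizer (A : Set G) →
      ∀ x ∈ D, h * x * h⁻¹ ∈ D := fun h hhP hhA x hx => by
    refine ⟨conj_mem_of_mem_normalizer (hCn h hhP hhA) hx.1, fun y hy => ?_⟩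
    have hy' : h⁻¹ * y * h ∈ P := (mem_normalizer_iff''.mp hhP y).mp hy
    have e : y * (h * x * h⁻¹) * y⁻¹ * (h * x * h⁻¹)⁻¹ =
        h * ((h⁻¹ * y * h) * x * (h⁻¹ * y * h)⁻¹ * x⁻¹) * h⁻¹ := by group
    rw [e]
    exact conj_mem_of_mem_normalizer hhA (hx.2 _ hy')
  -- there is one outside `A`
  obtain ⟨x, hxD, hxA⟩ : ∃ x ∈ D, x ∉ A := by
    have hnil : Group.IsNilpotent P := hP.isNilpotent
    have hex : ∃ n, ∃ x : P, x ∈ Subgroup.upperCentralSeries P n ∧ (x : G) ∈ C ∧ (x : G) ∉ A := by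
      obtain ⟨n, hn⟩ := Group.IsNilpotent.nilpotent P
      exact ⟨n, ⟨x₀, hx₀⟩, by rw [hn]; exact mem_top _,
        mem_inf.mpr ⟨hx₀, mem_centralizer_iff.mpr fun a ha => (hx₀c a ha).eq⟩, hx₀A⟩
    obtain ⟨x, hxZ, hxC, hxA⟩ := Nat.find_spec hex
    refine ⟨x, ⟨hxC, fun y hy => ?_⟩, hxA⟩
    by_contra hcon
    have hpos : Nat.find hex ≠ 0 := by
      intro h0
      rw [h0, Subgroup.upperCentralSeries_zero, mem_bot] at hxZ
      exact hxA (by rw [hxZ]; exact one_mem A)
    obtain ⟨m, hm⟩ := Nat.exists_eq_succ_of_ne_zero hpos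
    rw [hm] at hxZ
    have h1 := inv_mem (Subgroup.mem_upperCentralSeries_succ_iff.mp hxZ ⟨y, hy⟩)
    rw [commutatorElement_inv] at h1
    refine Nat.find_min hex (by omega : m < Nat.find hex) ⟨_, h1, ?_, hcon⟩
    show y * (x : G) * y⁻¹ * (x : G)⁻¹ ∈ C
    exact mul_mem (conj_mem_of_mem_normalizer (hCn y (le_normalizer hy) (hPA hy)) hxC) (inv_mem hxC)
  -- make it an eigenvector of an involution
  have eig : ∀ h : G, h * h = 1 → h ∈ normalizer (P : Set G) → h ∈ normalizer (A : Set G) →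
      ∀ x ∈ D, x ∉ A → ∃ x' ∈ D, x' ∉ A ∧
        (x' = x ∨ x' = x * (h * x * h⁻¹)) ∧
        ((h * x' * h⁻¹) * x'⁻¹ ∈ A ∨ x' * (h * x' * h⁻¹) ∈ A) := by
    intro h hh hhP hhA x hxD hxA
    by_cases hc : x * (h * x * h⁻¹) ∈ A
    · exact ⟨x, hxD, hxA, Or.inl rfl, Or.inr hc⟩
    refine ⟨_, mul_mem hxD (hDn h hhP hhA x hxD), hc, Or.inr rfl, Or.inl ?_⟩
    set y := h * x * h⁻¹ with hy
    have hyy : h * y * h⁻¹ = x := by
      calc h * y * h⁻¹ = (h * h) * x * (h * h)⁻¹ := by rw [hy]; group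
        _ = x := by rw [hh]; group
    have e : h * (x * y) * h⁻¹ * (x * y)⁻¹ = y * x * y⁻¹ * x⁻¹ := by
      calc _ = (h * x * h⁻¹) * (h * y * h⁻¹) * (x * y)⁻¹ := by group
        _ = _ := by rw [← hy, hyy]; group
    rw [e]
    exact hxD.2 y (mem_inf.mp (hDn h hhP hhA x hxD).1).1
  obtain ⟨x₁, hx1D, hx1A, -, hef⟩ := eig f hf hfP hfA x hxD hxA
  obtain ⟨x₂, hx2D, hx2A, hx2, heg⟩ := eig g hg hgP hgA x₁ hx1D hx1A
  set B := A ⊔ zpowers x₂ with hBdef
  have hcomm : ∀ a ∈ A, Commute a x₂ := fun a ha =>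
    mem_centralizer_iff.mp (mem_inf.mp hx2D.1).2 a ha
  have hbase : ∀ h : G, h ∈ normalizer (A : Set G) → h * x₂ * h⁻¹ ∈ B →
      h ∈ normalizer (B : Set G) := fun h hhA hhx => mem_normalizer_of_forall fun y hy => by
    have : B.map (MulAut.conj h).toMonoidHom ≤ B := by
      rw [hBdef, Subgroup.map_sup, MonoidHom.map_zpowers, sup_le_iff, zpowers_le]
      refine ⟨?_, hhx⟩
      rintro _ ⟨a, ha, rfl⟩
      exact mem_sup_left (conj_mem_of_mem_normalizer hhA ha)
    exact this ⟨y, hy, rfl⟩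
  have inB : ∀ h : G, ((h * x₂ * h⁻¹) * x₂⁻¹ ∈ A ∨ x₂ * (h * x₂ * h⁻¹) ∈ A) →
      h * x₂ * h⁻¹ ∈ B := by
    rintro h (h1 | h1)
    · simpa using mul_mem (mem_sup_left (T := zpowers x₂) h1) (mem_sup_right (mem_zpowers x₂))
    · simpa using mul_mem (inv_mem (mem_sup_right (S := A) (mem_zpowers x₂)))
        (mem_sup_left (T := zpowers x₂) h1)
  have hfB : f * x₂ * f⁻¹ ∈ B := by
    rcases hx2 with h | h
    · exact inB f (h ▸ hef)
    · -- `f` commutes with `g`
      refine inB f ?_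
      subst h
      set y := g * x₁ * g⁻¹ with hy
      have hyD : y ∈ D := hDn g hgP hgA _ hx1D
      have hfx : f * x₁ * f⁻¹ ∈ D := hDn f hfP hfA _ hx1D
      have hfy : f * y * f⁻¹ = g * (f * x₁ * f⁻¹) * g⁻¹ := by
        calc f * y * f⁻¹ = (f * g) * x₁ * (f * g)⁻¹ := by rw [hy]; group
          _ = (g * f) * x₁ * (g * f)⁻¹ := by rw [hfg.eq]
          _ = _ := by group
      rcases hef with h1 | h1
      · left
        have e : f * (x₁ * y) * f⁻¹ * (x₁ * y)⁻¹ = (f * x₁ * f⁻¹ * x₁⁻¹) *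
            (x₁ * (g * (f * x₁ * f⁻¹ * x₁⁻¹) * g⁻¹) * x₁⁻¹) := by
          calc _ = (f * x₁ * f⁻¹) * (f * y * f⁻¹) * (x₁ * y)⁻¹ := by group
            _ = _ := by rw [hfy, hy]; group
        rw [e]
        exact mul_mem h1 (conj_mem_of_mem_normalizer (hPA (mem_inf.mp hx1D.1).1)
          (conj_mem_of_mem_normalizer hgA h1))
      · right
        set u := f * x₁ * f⁻¹ with hu
        have e : x₁ * y * (f * (x₁ * y) * f⁻¹) =
            (x₁ * (y * u * y⁻¹ * u⁻¹) * x₁⁻¹) * (x₁ * u) * (g * (x₁ * u) * g⁻¹) := by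
          calc _ = x₁ * y * ((f * x₁ * f⁻¹) * (f * y * f⁻¹)) := by group
            _ = _ := by rw [hfy, ← hu, hy]; group
        rw [e]
        exact mul_mem (mul_mem (conj_mem_of_mem_normalizer (hPA (mem_inf.mp hx1D.1).1)
          (hfx.2 y (mem_inf.mp hyD.1).1)) h1) (conj_mem_of_mem_normalizer hgA h1)
  have hBc : IsMulCommutative B := by
    rw [hBdef, show A ⊔ zpowers x₂ = Subgroup.closure ((A : Set G) ∪ {x₂}) by
      rw [Subgroup.closure_union, Subgroup.closure_eq, zpowers_eq_closure]]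
    refine isMulCommutative_closure ?_
    rintro a (ha | ha) b (hb | hb)
    · exact congrArg Subtype.val (hAc.is_comm.comm ⟨a, ha⟩ ⟨b, hb⟩)
    · rw [Set.mem_singleton_iff.mp hb]; exact (hcomm a ha).eq
    · rw [Set.mem_singleton_iff.mp ha]; exact (hcomm b hb).eq.symm
    · rw [Set.mem_singleton_iff.mp ha, Set.mem_singleton_iff.mp hb]
  have hBP : B ≤ P := sup_le hAP (zpowers_le.mpr (mem_inf.mp hx2D.1).1)
  have hPB : P ≤ normalizer (B : Set G) := fun y hy => hbase y (hPA hy) (by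
    simpa using mul_mem (mem_sup_left (T := zpowers x₂) (hx2D.2 y hy))
      (mem_sup_right (mem_zpowers x₂)))
  exact hx2A (hmax ⟨hEA.trans le_sup_left, hBP, hBc, hbase f hfA hfB, hbase g hgA (inB g heg), hPB⟩
    le_sup_left (mem_sup_right (mem_zpowers x₂)))

theorem exists_eigen {A : Subgroup G} (hP : IsPGroup p A) (hAc : IsMulCommutative A) {f g x : G}
    (hf : f * f = 1) (hg : g * g = 1) (hfg : Commute f g) (hfA : f ∈ normalizer (A : Set G))
    (hgA : g ∈ normalizer (A : Set G)) (hx : x ∈ A) (hne : ¬ Commute f x) :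
    ∃ a ∈ A, orderOf a = p ∧ f * a * f⁻¹ = a⁻¹ ∧ (Commute g a ∨ g * a * g⁻¹ = a⁻¹) := by
  obtain ⟨a, ha, hord, hinv⟩ := exists_inverted hP hf hfA hx hne
  set y := g * a * g⁻¹ with hy
  have hyA : y ∈ A := conj_mem_of_mem_normalizer hgA ha
  by_cases hay : a * y = 1
  · exact ⟨a, ha, hord, hinv, Or.inr (eq_inv_of_mul_eq_one_right hay)⟩
  have hc : Commute a y := congrArg Subtype.val (hAc.is_comm.comm ⟨a, ha⟩ ⟨y, hyA⟩)
  have hyp : y ^ p = 1 := by rw [hy, conj_pow, ← hord, pow_orderOf_eq_one]; group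
  have hfy : f * y * f⁻¹ = y⁻¹ := by
    calc f * y * f⁻¹ = (f * g) * a * (f * g)⁻¹ := by rw [hy]; group
      _ = g * (f * a * f⁻¹) * g⁻¹ := by rw [hfg.eq]; group
      _ = _ := by rw [hinv, hy]; group
  refine ⟨a * y, mul_mem ha hyA, orderOf_eq_prime
    (by rw [hc.mul_pow, hyp, mul_one, ← hord, pow_orderOf_eq_one]) hay, ?_, Or.inl ?_⟩
  · calc f * (a * y) * f⁻¹ = (f * a * f⁻¹) * (f * y * f⁻¹) := by group
      _ = a⁻¹ * y⁻¹ := by rw [hinv, hfy]
      _ = _ := by rw [hc.eq]; group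
  · refine commute_iff_conj.mpr ?_
    calc g * (a * y) * g⁻¹ = y * ((g * g) * a * (g * g)⁻¹) := by rw [hy]; group
      _ = _ := by rw [hg]; simp [hc.eq]

/-- Adjoin an element inverted by an involution centralising an elementary group. -/
theorem adjoin {A E : Subgroup G} (hP : IsPGroup p A) (hp2 : p ≠ 2) (hAc : IsMulCommutative A)
    (hEA : E ≤ A) (hEc : IsMulCommutative E) (hEe : ∀ e ∈ E, e ^ p = 1) {f a : G}
    (hfE : ∀ e ∈ E, Commute f e) (ha : a ∈ A) (hord : orderOf a = p)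
    (hinv : f * a * f⁻¹ = a⁻¹) :
    E ⊔ zpowers a ≤ A ∧ IsMulCommutative ↥(E ⊔ zpowers a) ∧
      (∀ e ∈ E ⊔ zpowers a, e ^ p = 1) ∧ Nat.card E * p ≤ Nat.card ↥(E ⊔ zpowers a) := by
  have hnot : a ∉ E := fun h => by
    have h1 := eq_one_of_fixed_inverted (odd_of_isPGroup hp2 hP) ha (hfE a h) hinv
    rw [h1, orderOf_one] at hord
    exact hp.out.ne_one hord.symm
  obtain ⟨h1, h2, h3⟩ := elementary_sup_zpowers hEc hEe (by rw [← hord, pow_orderOf_eq_one]) hnot
    fun e he => congrArg Subtype.val (hAc.is_comm.comm ⟨a, ha⟩ ⟨e, hEA he⟩)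
  exact ⟨sup_le hEA (zpowers_le.mpr ha), h1, h2, h3⟩

namespace Hyp

variable (H : Hyp G p) (hp2 : p ≠ 2)
include H hp2

omit H in
theorem fixes_Rc {E : Subgroup G} {v u r : G} (hu : u ∈ Qz v) (huE : ∀ e ∈ E, Commute u e)
    (hr : r ∈ Rc p E) (hvr : Commute v r) : Commute u r := by
  have hrQ : r * u⁻¹ * r⁻¹ ∈ Qz v := conj_mem_Qz hvr (inv_mem hu)
  have h1 : u * r * u⁻¹ * r⁻¹ = 1 := by
    refine eq_one_of_two_p hp2 (Qz_isPGroup v) (Rc_isPGroup (p := p) E) ?_ ?_
    · simpa only [mul_assoc] using mul_mem hu hrQ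
    · exact mul_mem (conj_mem_of_mem_normalizer (mem_normalizer_Rc huE) hr) (inv_mem hr)
  exact commute_iff_conj.mpr (mul_inv_eq_one.mp h1)

theorem moves {E : Subgroup G} (hE : IsPGroup p E) (hE1 : E ≠ ⊥) (hEc : IsMulCommutative E)
    {v : G} (hv : v * v = 1) (hv1 : v ≠ 1) (hvE : ∀ e ∈ E, Commute v e) :
    ¬ ∀ r ∈ Rc p E, Commute v r := by
  intro hall
  have hEn : E ≤ Rn p E := (le_Rc hE hEc).trans inf_le_left
  have hPn : IsPGroup p (Rn p E) := pCoreOf_isPGroup p _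
  have h1 : ∀ r ∈ Rn p E, Commute v r := by
    refine centralizes_of_centralizer_le hp2 hPn hv (mem_normalizer_Rn hvE) fun x hx hc => ?_
    exact hall x (mem_inf.mpr ⟨hx, mem_centralizer_iff.mpr fun e he =>
      (hc e (hEn he) (hvE e he)).eq⟩)
  have h2 := H.loc E hE hE1 v (mem_normalizer_of_centralizes hvE) fun r hr => (h1 r hr).symm
  exact hv1 (eq_one_of_sq (odd_of_isPGroup hp2 hPn) h2 hv)

/-- A 2-element fixing `Rc p E` is trivial. -/
theorem eq_one_of_fixes {E : Subgroup G} (hE : IsPGroup p E) (hE1 : E ≠ ⊥)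
    (hEc : IsMulCommutative E) {K : Subgroup G} (hK : IsPGroup 2 K) {x : G} (hx : x ∈ K)
    (hxE : ∀ e ∈ E, Commute x e) (hfix : ∀ r ∈ Rc p E, Commute x r) : x = 1 := by
  by_contra hne
  obtain ⟨k, hk⟩ := hK ⟨x, hx⟩
  have hxk : x ^ 2 ^ k = 1 := congrArg Subtype.val hk
  obtain ⟨j, -, hj⟩ := (Nat.dvd_prime_pow Nat.prime_two).mp (orderOf_dvd_of_pow_eq_one hxk)
  have hj0 : j ≠ 0 := fun h => hne (orderOf_eq_one_iff.mp (by rw [hj, h, pow_zero]))
  set v := x ^ 2 ^ (j - 1) with hv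
  have hv1 : v ≠ 1 := fun h => by
    have := Nat.le_of_dvd (by positivity) (orderOf_dvd_of_pow_eq_one h)
    rw [hj] at this
    have := (Nat.pow_le_pow_iff_right (le_refl 2)).mp this
    omega
  have hvv : v * v = 1 := by
    rw [hv, ← pow_add, ← two_mul, ← pow_succ', show j - 1 + 1 = j by omega, ← hj,
      pow_orderOf_eq_one]
  exact H.moves hp2 hE hE1 hEc hvv hv1 (fun e he => (hxE e he).pow_left _)
    (fun r hr => (hfix r hr).pow_left _)

theorem not_same_fixed {E : Subgroup G} (hE : IsPGroup p E) (hE1 : E ≠ ⊥)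
    (hEc : IsMulCommutative E) {v z : G} (hv : v * v = 1) (hz : z * z = 1) (hne : z ≠ v)
    (hvz : Commute v z) (hvE : ∀ e ∈ E, Commute v e) (hzE : ∀ e ∈ E, Commute z e) :
    ¬ ∀ x ∈ Rc p E, (Commute z x ↔ Commute v x) := by
  intro hfix
  refine H.moves hp2 hE hE1 hEc (v := v * z) ?_ ?_ (fun e he => (hvE e he).mul_left (hzE e he))
    fun r hr => commute_iff_conj.mpr ?_
  · rw [hvz.symm.mul_mul_mul_comm, hv, hz, one_mul]
  · intro h; exact hne ((eq_inv_of_mul_eq_one_right h).trans (inv_eq_self hv))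
  · calc v * z * r * (v * z)⁻¹ = v * (z * r * z⁻¹) * v⁻¹ := by group
      _ = v * (v * r * v⁻¹) * v⁻¹ := by
          rw [conj_eq_of_fixed_eq (odd_of_isPGroup hp2 (Rc_isPGroup E)) hv (mem_normalizer_Rc hvE)
            hz (mem_normalizer_Rc hzE) hvz hfix hr]
      _ = (v * v) * r * (v * v)⁻¹ := by group
      _ = r := by rw [hv]; group

theorem fixed_le {E : Subgroup G} {v z : G} (hvE : ∀ e ∈ E, Commute v e) (hvQ : v ∈ Qz z) :
    ∀ x ∈ Rc p E, Commute z x → Commute v x := fun _ hx hzx => fixes_Rc hp2 hvQ hvE hx hzx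

theorem not_mem_Qz {E : Subgroup G} (hE : IsPGroup p E) (hE1 : E ≠ ⊥)
    (hEc : IsMulCommutative E) {v z : G} (hv : v * v = 1) (hz : z * z = 1) (hne : z ≠ v)
    (hvE : ∀ e ∈ E, Commute v e) (hzE : ∀ e ∈ E, Commute z e) (hvQ : v ∈ Qz z) : z ∉ Qz v :=
  fun hzQ => H.not_same_fixed hp2 hE hE1 hEc hv hz hne (commute_of_mem_Qz hvQ).symm hvE hzE
    fun x hx => ⟨H.fixed_le hp2 hvE hvQ x hx, H.fixed_le hp2 hzE hzQ x hx⟩

theorem commute_Qz {E : Subgroup G} (hE : IsPGroup p E) (hE1 : E ≠ ⊥)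
    (hEc : IsMulCommutative E) {v z : G} (hv : v * v = 1) (hz : z * z = 1)
    (hvE : ∀ e ∈ E, Commute v e) (hzE : ∀ e ∈ E, Commute z e) (hvQ : v ∈ Qz z)
    {u : G} (hu : u ∈ Qz v) (huE : ∀ e ∈ E, Commute u e) : Commute z u := by
  have hvz : Commute v z := (commute_of_mem_Qz hvQ).symm
  have hodd := odd_of_isPGroup hp2 (Rc_isPGroup (p := p) E)
  set c := u⁻¹ * (z⁻¹ * u * z) with hc
  have hcQ : c ∈ Qz v := mul_mem (inv_mem hu) (by
    have := conj_mem_Qz hvz.inv_right hu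
    rwa [inv_inv] at this)
  have hcE : ∀ e ∈ E, Commute c e := fun e he =>
    (huE e he).inv_left.mul_left (((hzE e he).inv_left.mul_left (huE e he)).mul_left (hzE e he))
  have hc1 : c = 1 := H.eq_one_of_fixes hp2 hE hE1 hEc (Qz_isPGroup v) hcQ hcE fun r hr => by
    refine commute_iff_conj.mpr ?_
    have := conj_comm_of_fixed_le hodd hv (mem_normalizer_Rc hvE) hz (mem_normalizer_Rc hzE) hvz
      (H.fixed_le hp2 hvE hvQ) (mem_normalizer_Rc huE) (commute_of_mem_Qz hu).symm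
      (fun x hx hvx => fixes_Rc hp2 hu huE hx hvx) hr
    calc c * r * c⁻¹ = (z * u)⁻¹ * ((u * z) * r * (u * z)⁻¹) * (z * u) := by rw [hc]; group
      _ = r := by rw [← this]; group
  rw [hc] at hc1
  show z * u = u * z
  calc z * u = z * u * 1 := (mul_one _).symm
    _ = z * u * (u⁻¹ * (z⁻¹ * u * z)) := by rw [hc1]
    _ = u * z := by group

theorem unique_involution {E : Subgroup G} (hEc : IsMulCommutative E) (hEe : ∀ e ∈ E, e ^ p = 1)
    (hEcard : p ^ 2 ≤ Nat.card E) {z x : G} (hz : z * z = 1) (hz1 : z ≠ 1)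
    (hzE : ∀ e ∈ E, Commute z e)
    (hx : x ∈ Qz z) (hx2 : x * x = 1) (hxE : ∀ e ∈ E, Commute e x) : x = 1 ∨ x = z := by
  by_contra hne
  push Not at hne
  obtain ⟨hx1, hxz⟩ := hne
  have hpE : IsPGroup p E := fun a => ⟨1, Subtype.ext (by simpa using hEe a a.2)⟩
  have hE1 : E ≠ ⊥ := by
    intro h; rw [h, card_bot] at hEcard
    exact absurd hEcard (not_le.mpr (Nat.one_lt_pow (by norm_num) hp.out.one_lt))
  have hncyc : ¬ IsCyclic E := by
    intro hc
    obtain ⟨g, hg⟩ := hc.exists_ofOrder_eq_natCard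
    have h1 : orderOf g ≤ p := Nat.le_of_dvd hp.out.pos
      (orderOf_dvd_of_pow_eq_one (Subtype.ext (by simpa using hEe g g.2)))
    rw [hg] at h1
    exact absurd (hEcard.trans h1) (not_le.mpr (by
      nth_rw 1 [← pow_one p]
      exact Nat.pow_lt_pow_right hp.out.one_lt (by norm_num)))
  have hxE' : ∀ e ∈ E, Commute x e := fun e he => (hxE e he).symm
  have hnot := H.not_mem_Qz hp2 hpE hE1 hEc hx2 hz (Ne.symm hxz) hxE' hzE hx
  apply hnot
  refine H.two x hx2 hx1 z (commute_of_mem_Qz hx).symm fun q hq => ?_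
  have hEn : E ≤ normalizer (Qz x : Set G) := fun e he =>
    mem_normalizer_of_forall fun y hy => conj_mem_Qz (hxE' e he) hy
  have hle : Qz x ≤ centralizer ({z} : Set G) := by
    conv_lhs => rw [← Coprime.iSup_centralizer_eq hncyc hEn (by
      obtain ⟨i, hi⟩ := IsPGroup.iff_card.mp hpE
      obtain ⟨j, hj⟩ := IsPGroup.iff_card.mp (Qz_isPGroup x)
      rw [hi, hj]
      exact Nat.Coprime.pow i j ((Nat.coprime_primes hp.out Nat.prime_two).mpr hp2))]
    refine iSup₂_le fun e he => ?_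
    intro u hu
    obtain ⟨huQ, hue⟩ := mem_inf.mp hu
    rw [mem_centralizer_singleton]
    have hall : ∀ {w : G}, Commute w e → ∀ a ∈ zpowers e, Commute w a := by
      rintro w hw _ ⟨n, rfl⟩; exact hw.zpow_right n
    exact H.commute_Qz hp2 (hpE.to_le (zpowers_le.mpr he.1))
      (fun h => he.2 (zpowers_eq_bot.mp h))
      inferInstance hx2 hz (hall (hxE' e he.1)) (hall (hzE e he.1)) hx huQ
      (hall (mem_centralizer_singleton.mp hue).symm)
  exact (mem_centralizer_singleton.mp (hle hq)).symm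

theorem frame {z : G} {B : Subgroup G} (hz : z * z = 1) (hz1 : z ≠ 1) (hBc : IsMulCommutative B)
    (hBe : ∀ b ∈ B, b ^ p = 1) (hB : p ^ 3 ≤ Nat.card B) (hzB : ∀ b ∈ B, Commute z b) :
    Frame p (Qz z) B z where
  two := Qz_isPGroup z
  zQ := mem_Qz_self hz
  zsq := hz
  zne := hz1
  central := fun _ hq => commute_of_mem_Qz hq
  fixz := fun b hb => (hzB b hb).symm
  norm := fun b hb => mem_normalizer_of_forall fun _ hy => conj_mem_Qz (hzB b hb) hy
  comm := hBc
  exp := hBe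
  big := hB
  faith := fun b hb hfix => by
    have hpB : IsPGroup p B := fun a => ⟨1, Subtype.ext (by simpa using hBe a a.2)⟩
    exact eq_one_of_two_p hp2 (Qz_isPGroup z) hpB
      (H.two z hz hz1 b (hzB b hb) fun q hq => (hfix q hq).symm) hb
  unique := fun E hEB hE x hx hx2 hxE => H.unique_involution hp2
    (le_centralizer_iff_isMulCommutative.mp
      (hEB.trans ((le_centralizer_iff_isMulCommutative.mpr hBc).trans (centralizer_le hEB))))
    (fun e he => hBe e (hEB he)) hE hz hz1 (fun e he => hzB e (hEB he)) hx hx2 hxE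

/-- The rank-three group in the centraliser of `v`. -/
theorem exists_rank_three {b v z k w : G} (hb1 : b ≠ 1) (hbp : b ^ p = 1)
    (hv : v * v = 1) (hz : z * z = 1) (hw : w * w = 1) (hne : z ≠ v)
    (hbv : Commute b v) (hbz : Commute b z) (hbk : Commute b k) (hbw : Commute b w)
    (hvQ : v ∈ Qz z) (hvk : Commute v k) (hvw : Commute v w) (hzw : Commute z w)
    (hzk : Commute z k) (hkw : k * w * k⁻¹ * w⁻¹ = z) :
    ∃ B : Subgroup G, b ∈ B ∧ IsMulCommutative B ∧ (∀ a ∈ B, a ^ p = 1) ∧ p ^ 3 ≤ Nat.card B ∧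
      B ≤ Rc p (zpowers b) ∧ ∀ a ∈ B, Commute v a := by
  have hall : ∀ {g : G}, Commute g b → ∀ a ∈ zpowers b, Commute g a := by
    rintro g hg _ ⟨n, rfl⟩; exact hg.zpow_right n
  have hEp : IsPGroup p (zpowers b) := by
    rintro ⟨a, n, rfl⟩
    refine ⟨1, Subtype.ext ?_⟩
    simp only [pow_one, SubmonoidClass.coe_pow, OneMemClass.coe_one]
    rw [← zpow_natCast, ← zpow_mul, mul_comm, zpow_mul, zpow_natCast, hbp, one_zpow]
  have hE1 : zpowers b ≠ ⊥ := fun h => hb1 (zpowers_eq_bot.mp h)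
  set R := Rc p (zpowers b) with hR
  set P := R ⊓ centralizer ({v} : Set G) with hPdef
  have hPp : IsPGroup p P := (Rc_isPGroup _).to_le inf_le_left
  have hnP : ∀ {g : G}, Commute b g → Commute v g → g ∈ normalizer (P : Set G) := fun hbg hvg =>
    mem_normalizer_of_forall fun x hx => by
      obtain ⟨h1, h2⟩ := mem_inf.mp hx
      exact mem_inf.mpr ⟨conj_mem_of_mem_normalizer (mem_normalizer_Rc (hall hbg.symm)) h1,
        mem_centralizer_singleton.mpr
          ((hvg.mul_right (mem_centralizer_singleton.mp h2)).mul_right hvg.inv_right)⟩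
  have hbP : zpowers b ≤ P := le_inf (le_Rc hEp inferInstance)
    (zpowers_le.mpr (mem_centralizer_singleton.mpr hbv.symm))
  have hcen : ∀ e ∈ zpowers b, ∀ x ∈ P, Commute e x := fun e he x hx =>
    mem_centralizer_iff.mp (mem_inf.mp (mem_inf.mp hx).1).2 e he
  have hvz : Commute v z := (commute_of_mem_Qz hvQ).symm
  -- each of `z`, `w`, `z * w` moves `P`
  have hmz : ¬ ∀ x ∈ P, Commute z x := by
    intro hfix
    exact H.not_same_fixed hp2 hEp hE1 inferInstance hv hz hne hvz (hall hbv.symm) (hall hbz.symm)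
      fun x hx => ⟨H.fixed_le hp2 (hall hbv.symm) hvQ x hx,
        fun hvx => hfix x (mem_inf.mpr ⟨hx, mem_centralizer_singleton.mpr hvx⟩)⟩
  have hmw : ∀ f : G, k * f * k⁻¹ * f⁻¹ = z → ¬ ∀ x ∈ P, Commute f x := by
    intro f hkf hfix
    apply hmz
    intro x hx
    have h2 : k⁻¹ * x * k ∈ P := (mem_normalizer_iff''.mp (hnP hbk hvk) x).mp hx
    refine commute_iff_conj.mpr ?_
    calc z * x * z⁻¹ = k * (f * (k⁻¹ * (f⁻¹ * x * f) * k) * f⁻¹) * k⁻¹ := by rw [← hkf]; group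
      _ = k * (f * (k⁻¹ * x * k) * f⁻¹) * k⁻¹ := by
          rw [show f⁻¹ * x * f = x by rw [mul_assoc, ← (hfix x hx).eq, inv_mul_cancel_left]]
      _ = k * (k⁻¹ * x * k) * k⁻¹ := by rw [commute_iff_conj.mp (hfix _ h2)]
      _ = x := by group
  have hkzw : k * (z * w) * k⁻¹ * (z * w)⁻¹ = z := by
    calc k * (z * w) * k⁻¹ * (z * w)⁻¹ = (k * z * k⁻¹) * (k * w * k⁻¹ * w⁻¹) * z⁻¹ := by group
      _ = z := by rw [hkw, commute_iff_conj.mp hzk.symm]; group
  obtain ⟨A, hEA, hAP, hAc, hzA, hwA, hself⟩ := exists_selfCentral hPp hbP inferInstance hcen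
    hz hw hzw (hnP hbz hvz) (hnP hbw hvw) (hall hbz.symm) (hall hbw.symm)
  have hAp : IsPGroup p A := hPp.to_le hAP
  have hmoveA : ∀ f : G, f * f = 1 → f ∈ normalizer (P : Set G) → (¬ ∀ x ∈ P, Commute f x) →
      ∃ x ∈ A, ¬ Commute f x := by
    intro f hf hfP hmove
    by_contra hcon
    push Not at hcon
    exact hmove (centralizes_of_centralizer_le hp2 hPp hf hfP fun x hx hc =>
      hcon x (hself x hx fun a ha => hc a (hAP ha) (hcon a ha)))
  have hzwsq : (z * w) * (z * w) = 1 := by rw [hzw.symm.mul_mul_mul_comm, hz, hw, one_mul]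
  -- assemble from eigenvectors
  have key : ∀ f g x y : G, (∀ e ∈ zpowers b, Commute f e) → (∀ e ∈ zpowers b, Commute g e) →
      x ∈ A → orderOf x = p → g * x * g⁻¹ = x⁻¹ → Commute f x →
      y ∈ A → orderOf y = p → f * y * f⁻¹ = y⁻¹ →
      ∃ B : Subgroup G, b ∈ B ∧ IsMulCommutative B ∧ (∀ a ∈ B, a ^ p = 1) ∧
        p ^ 3 ≤ Nat.card B ∧ B ≤ A := by
    intro f g x y hfb hgb hx hxo hgx hfx hy hyo hfy
    have hEe : ∀ e ∈ zpowers b, e ^ p = 1 := by
      rintro _ ⟨n, rfl⟩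
      rw [← zpow_natCast, ← zpow_mul, mul_comm, zpow_mul, zpow_natCast, hbp, one_zpow]
    obtain ⟨h1, h2, h3, h4⟩ := adjoin hAp hp2 hAc hEA inferInstance hEe hgb hx hxo hgx
    have hfE : ∀ e ∈ zpowers b ⊔ zpowers x, Commute f e := by
      intro e he
      have : zpowers b ⊔ zpowers x ≤ centralizer ({f} : Set G) := sup_le
        (fun a ha => mem_centralizer_singleton.mpr (hfb a ha))
        (zpowers_le.mpr (mem_centralizer_singleton.mpr hfx))
      exact mem_centralizer_singleton.mp (this he)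
    obtain ⟨g1, g2, g3, g4⟩ := adjoin hAp hp2 hAc h1 h2 h3 hfE hy hyo hfy
    refine ⟨_, mem_sup_left (mem_sup_left (mem_zpowers b)), g2, g3, ?_, g1⟩
    have hbc : Nat.card (zpowers b) = p := by rw [Nat.card_zpowers, orderOf_eq_prime hbp hb1]
    rw [hbc] at h4
    calc p ^ 3 = p * p * p := by ring
      _ ≤ _ := (Nat.mul_le_mul_right p h4).trans g4
  have res : ∃ B : Subgroup G, b ∈ B ∧ IsMulCommutative B ∧ (∀ a ∈ B, a ^ p = 1) ∧
      p ^ 3 ≤ Nat.card B ∧ B ≤ A := by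
    have ez := hall hbz.symm
    have ew := hall hbw.symm
    obtain ⟨x, hx, hxm⟩ := hmoveA z hz (hnP hbz hvz) hmz
    obtain ⟨a₁, ha1, ho1, hi1, h1⟩ := exists_eigen hAp hAc hz hw hzw hzA hwA hx hxm
    obtain ⟨y, hy, hym⟩ := hmoveA w hw (hnP hbw hvw) (hmw w hkw)
    obtain ⟨a₂, ha2, ho2, hi2, h2⟩ := exists_eigen hAp hAc hw hz hzw.symm hwA hzA hy hym
    rcases h1 with h1 | h1
    · exact key w z a₁ a₂ ew ez ha1 ho1 hi1 h1 ha2 ho2 hi2
    rcases h2 with h2 | h2
    · exact key z w a₂ a₁ ez ew ha2 ho2 hi2 h2 ha1 ho1 hi1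
    obtain ⟨y', hy', hym'⟩ := hmoveA (z * w) hzwsq
      (hnP (hbz.mul_right hbw) (hvz.mul_right hvw)) (hmw _ hkzw)
    obtain ⟨a₃, ha3, ho3, hi3, h3⟩ := exists_eigen hAp hAc hzwsq hz
      ((Commute.refl z).mul_left hzw.symm) (mul_mem hzA hwA) hzA hy' hym'
    rcases h3 with h3 | h3
    · -- `z` fixes `a₃`, `w` inverts it
      have hw3 : w * a₃ * w⁻¹ = a₃⁻¹ := by
        calc w * a₃ * w⁻¹ = z⁻¹ * (z * w * a₃ * (z * w)⁻¹) * z := by group
          _ = a₃⁻¹ := by rw [hi3, mul_assoc, ← h3.inv_right.eq, inv_mul_cancel_left]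
      exact key z w a₃ a₁ ez ew ha3 ho3 hw3 h3 ha1 ho1 hi1
    · -- `z` inverts `a₃`, `w` fixes it
      have hw3 : Commute w a₃ := commute_iff_conj.mpr (by
        calc w * a₃ * w⁻¹ = z⁻¹ * (z * w * a₃ * (z * w)⁻¹) * z := by group
          _ = z⁻¹ * (z * a₃ * z⁻¹) * z := by rw [hi3, h3]
          _ = a₃ := by group)
      exact key w z a₃ a₂ ew ez ha3 ho3 h3 hw3 ha2 ho2 hi2
  obtain ⟨B, hB1, hB2, hB3, hB4, hB5⟩ := res
  exact ⟨B, hB1, hB2, hB3, hB4, (hB5.trans hAP).trans inf_le_left,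
    fun a ha => mem_centralizer_singleton.mp (mem_inf.mp (hAP (hB5 ha))).2⟩

/-- No involution centralises an elementary abelian group of order `p^3`. -/
theorem no_rank_three {z : G} {B : Subgroup G} (hz : z * z = 1) (hz1 : z ≠ 1)
    (hBc : IsMulCommutative B) (hBe : ∀ b ∈ B, b ^ p = 1) (hB : p ^ 3 ≤ Nat.card B)
    (hzB : ∀ b ∈ B, Commute z b) : False := by
  have F := H.frame hp2 hz hz1 hBc hBe hB hzB
  obtain ⟨b, hb, hb1, k, l, k₂, l₂, hk, hl, hk2, hl2, hbk, hbl, hbk2, hbl2, hkk, hll, hkk2, hll2,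
    c11, c12, c21, c22, hkl, hkl2⟩ := F.exists_pairs hp2
  set M := (⁅Qz z, B⁆ : Subgroup G) with hM
  have hMQ : M ≤ Qz z := F.M_le
  set v := k * k₂ with hvdef
  set w := l * l₂ with hwdef
  have hvQ : v ∈ Qz z := hMQ (mul_mem hk hk2)
  have hzk : Commute z k := commute_of_mem_Qz (hMQ hk)
  have hzl : Commute z l := commute_of_mem_Qz (hMQ hl)
  have hzv : Commute z v := commute_of_mem_Qz hvQ
  have hzw : Commute z w := hzl.mul_right (commute_of_mem_Qz (hMQ hl2))
  have hv : v * v = 1 := by rw [hvdef, c11.symm.mul_mul_mul_comm, hkk, hkk2, hz]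
  have hw : w * w = 1 := by rw [hwdef, c22.symm.mul_mul_mul_comm, hll, hll2, hz]
  have hkconj : k * w * k⁻¹ * w⁻¹ = z := by
    calc k * w * k⁻¹ * w⁻¹ = k * l * (l₂ * k⁻¹ * l₂⁻¹) * l⁻¹ := by rw [hwdef]; group
      _ = k * l * k⁻¹ * l⁻¹ := by rw [commute_iff_conj.mp c12.inv_left.symm]
      _ = z := by rw [← commutatorElement_def]; exact hkl
  have hvl : v * l * v⁻¹ * l⁻¹ = z := by
    calc v * l * v⁻¹ * l⁻¹ = k * (k₂ * l * k₂⁻¹) * k⁻¹ * l⁻¹ := by rw [hvdef]; group
      _ = k * l * k⁻¹ * l⁻¹ := by rw [commute_iff_conj.mp c21.symm]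
      _ = z := by rw [← commutatorElement_def]; exact hkl
  have hkv : Commute k v := (Commute.refl k).mul_right c11
  have hne : z ≠ v := fun h => hz1 (by rw [← hvl, ← h, commute_iff_conj.mp hzl, mul_inv_cancel])
  have hv1 : v ≠ 1 := fun h => hz1 (by rw [← hvl, h]; group)
  have hbv : Commute b v := hbk.mul_right hbk2
  have hbw : Commute b w := hbl.mul_right hbl2
  have hbz : Commute b z := (hzB b hb).symm
  have e1 : v * k = k * v := hkv.eq.symm
  have hvw : Commute v w := by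
    have a1 : k * l = z * (l * k) := by rw [← hkl, commutatorElement_def]; group
    have a2 : k₂ * l₂ = z * (l₂ * k₂) := by rw [← hkl2, commutatorElement_def]; group
    show v * w = w * v
    rw [hvdef, hwdef]
    calc k * k₂ * (l * l₂) = k * l * (k₂ * l₂) := c21.symm.mul_mul_mul_comm ..
      _ = z * (l * k) * (z * (l₂ * k₂)) := by rw [a1, a2]
      _ = z * z * ((l * k) * (l₂ * k₂)) := (hzl.mul_right hzk).symm.mul_mul_mul_comm ..
      _ = l * l₂ * (k * k₂) := by rw [hz, one_mul, c12.mul_mul_mul_comm]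
  obtain ⟨B', hbB', hB'c, hB'e, hB', hB'R, hB'v⟩ := H.exists_rank_three hp2 hb1 (hBe b hb) hv hz hw
    hne hbv hbz hbk hbw hvQ hkv.symm hvw hzw hzk hkconj
  have F' := H.frame hp2 hv hv1 hB'c hB'e hB' hB'v
  set N := (⁅Qz v, B'⁆ : Subgroup G) with hN
  have hNQ : N ≤ Qz v := F'.M_le
  have hall : ∀ {g : G}, Commute g b → ∀ a ∈ zpowers b, Commute g a := by
    rintro g hg _ ⟨n, rfl⟩; exact hg.zpow_right n
  have hEp : IsPGroup p (zpowers b) :=
    F.isPGroup_B.to_le (zpowers_le.mpr hb)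
  have hE1 : zpowers b ≠ ⊥ := fun h => hb1 (zpowers_eq_bot.mp h)
  have hzQv : z ∉ Qz v := H.not_mem_Qz hp2 hEp hE1 inferInstance hv hz hne (hall hbv.symm)
    (hall hbz.symm) hvQ
  -- `b`-fixed points of `Qz v` are fixed by `B'` and centralise `z`
  have hfix : ∀ u ∈ Qz v, Commute b u → (∀ a ∈ B', Commute a u) ∧ Commute z u := fun u hu hbu =>
    ⟨fun a ha => (fixes_Rc hp2 hu (hall hbu.symm) (hB'R ha) (hB'v a ha)).symm,
      H.commute_Qz hp2 hEp hE1 inferInstance hv hz (hall hbv.symm) (hall hbz.symm) hvQ hu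
        (hall hbu.symm)⟩
  have hNfix : ∀ u ∈ N, Commute b u → Small v u := fun u hu hbu =>
    F'.small_of_fixed hp2 hu (hfix u (hNQ hu) hbu).1
  -- `N = ⁅Qz v, ⟨b⟩⁆`
  have hzbQ : zpowers b ≤ normalizer (Qz v : Set G) := zpowers_le.mpr (F'.norm hbB')
  have hNb : N = ⁅Qz v, zpowers b⁆ := by
    refine le_antisymm ?_ (commutator_mono le_rfl (zpowers_le.mpr hbB'))
    rw [hN, commutator_le]
    intro q hq a ha
    obtain ⟨n, hn, c, hc, rfl⟩ := Coprime.exists_commutator_mul_fixed hzbQ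
      (F'.coprime_sub hp2 (zpowers_le.mpr hbB') le_rfl)
      (Or.inl (Coprime.isSolvable_zpowers b)) hq
    obtain ⟨hcQ, hcb⟩ := mem_inf.mp hc
    have hca : Commute a c :=
      (hfix c hcQ (mem_centralizer_iff.mp hcb b (mem_zpowers b))).1 a ha
    have hmap : (⁅Qz v, zpowers b⁆ : Subgroup G).map (MulAut.conj a).toMonoidHom ≤
        ⁅Qz v, zpowers b⁆ := by
      rw [map_commutator]
      refine commutator_mono ?_ ?_
      · rintro _ ⟨y, hy, rfl⟩; exact conj_mem_of_mem_normalizer (F'.norm ha) hy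
      · rw [MonoidHom.map_zpowers, zpowers_le]
        show a * b * a⁻¹ ∈ zpowers b
        rw [commute_iff_conj.mp (congrArg Subtype.val
          (hB'c.is_comm.comm ⟨a, ha⟩ ⟨b, hbB'⟩) : Commute a b)]
        exact mem_zpowers b
    have e : ⁅n * c, a⁆ = n * (a * n⁻¹ * a⁻¹) := by
      calc ⁅n * c, a⁆ = n * (c * a * c⁻¹) * n⁻¹ * a⁻¹ := by rw [commutatorElement_def]; group
        _ = _ := by rw [commute_iff_conj.mp hca.symm]; group
    rw [e]
    exact mul_mem hn (hmap ⟨_, inv_mem hn, rfl⟩)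
  have hNnorm : ∀ g : G, Commute b g → Commute v g → g ∈ normalizer (N : Set G) := by
    intro g hbg hvg
    refine mem_normalizer_of_forall fun y hy => ?_
    rw [hNb] at hy ⊢
    have : (⁅Qz v, zpowers b⁆ : Subgroup G).map (MulAut.conj g).toMonoidHom ≤
        ⁅Qz v, zpowers b⁆ := by
      rw [map_commutator]
      refine commutator_mono ?_ ?_
      · rintro _ ⟨x, hx, rfl⟩; exact conj_mem_Qz hvg hx
      · rw [MonoidHom.map_zpowers, zpowers_le]
        show g * b * g⁻¹ ∈ zpowers b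
        rw [commute_iff_conj.mp hbg.symm]; exact mem_zpowers b
    exact this ⟨y, hy, rfl⟩
  have hcopN : ∀ X : Subgroup G, X ≤ N → (orderOf b).Coprime (Nat.card X) := fun X hX => by
    rw [← Nat.card_zpowers]
    exact F'.coprime_sub hp2 (zpowers_le.mpr hbB') (hX.trans hNQ)
  have hNb' : b ∈ normalizer (N : Set G) := hNnorm b (Commute.refl b) hbv.symm
  have hsmb : ∀ {c : G}, Small v c → Commute b c := fun hc => F'.small_fix hc hbB'
  -- lifting the fixed points of `z` on `N / ⟨v⟩`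
  have hlift : ∀ x ∈ N, Small v (z * x * z⁻¹ * x⁻¹) → Commute z x := by
    let X : Subgroup G :=
      { carrier := {x | x ∈ N ∧ Small v (z * x * z⁻¹ * x⁻¹)}
        one_mem' := ⟨one_mem _, Or.inl (by group)⟩
        mul_mem' := fun {x y} hx hy => ⟨mul_mem hx.1 hy.1, by
          have e : z * (x * y) * z⁻¹ * (x * y)⁻¹ =
              (z * x * z⁻¹ * x⁻¹) * (x * (z * y * z⁻¹ * y⁻¹) * x⁻¹) := by group
          rw [e, commute_iff_conj.mp ((F'.small_commute hy.2 (hNQ hx.1)).symm)]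
          exact F'.small_mul hx.2 hy.2⟩
        inv_mem' := fun {x} hx => ⟨inv_mem hx.1, by
          have e : z * x⁻¹ * z⁻¹ * x⁻¹⁻¹ = x⁻¹ * (z * x * z⁻¹ * x⁻¹)⁻¹ * x⁻¹⁻¹ := by group
          rw [e, commute_iff_conj.mp
            ((F'.small_commute (F'.small_inv hx.2) (hNQ (inv_mem hx.1))).symm)]
          exact F'.small_inv hx.2⟩ }
    have hXn : b ∈ normalizer (X : Set G) := mem_normalizer_of_forall fun x hx =>
      ⟨conj_mem_of_mem_normalizer hNb' hx.1, by
        have e : z * (b * x * b⁻¹) * z⁻¹ * (b * x * b⁻¹)⁻¹ =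
            (z * b) * x * (z * b)⁻¹ * (b * x⁻¹ * b⁻¹) := by group
        rw [e, hbz.symm.eq, show b * z * x * (b * z)⁻¹ * (b * x⁻¹ * b⁻¹) =
          b * (z * x * z⁻¹ * x⁻¹) * b⁻¹ by group, commute_iff_conj.mp (hsmb hx.2)]
        exact hx.2⟩
    intro x hxN hxs
    exact centralizes_of_fixed (X := X) hXn (hcopN X fun y hy => hy.1) hbz
      (fun y hy => hsmb hy.2) (fun y hy hby => (hfix y (hNQ hy.1) hby).2) x ⟨hxN, hxs⟩
  -- `Qz z ∩ Qz v` inside `M`
  have hMfix : ∀ x ∈ M, (∀ m ∈ M, Commute m x) → Small z x := by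
    intro x hx hxc
    refine F.small_of_fixed hp2 hx fun a ha => ?_
    set A := M ⊓ centralizer (M : Set G) with hA
    have hAc : IsMulCommutative A := le_centralizer_iff_isMulCommutative.mp
      (inf_le_right.trans (centralizer_le inf_le_left))
    have hAn : B ≤ normalizer (A : Set G) := Coprime.le_normalizer_inf F.B_norm_M
      (fun g hg => mem_normalizer_of_forall fun y hy => mem_centralizer_iff.mpr fun m hm => by
        have hm' : g⁻¹ * m * g ∈ M := (mem_normalizer_iff''.mp (F.B_norm_M hg) m).mp hm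
        have e : Commute (g⁻¹ * m * g) y := mem_centralizer_iff.mp hy _ hm'
        calc m * (g * y * g⁻¹) = g * ((g⁻¹ * m * g) * y) * g⁻¹ := by group
          _ = g * (y * (g⁻¹ * m * g)) * g⁻¹ := by rw [e.eq]
          _ = _ := by group)
    exact (mem_centralizer_iff.mp (F.fixes_abelian hp2 hAc (inf_le_left.trans hMQ) hAn ha) x
      (mem_inf.mpr ⟨hx, mem_centralizer_iff.mpr fun m hm => (hxc m hm).eq⟩)).symm
  have hY : ∀ y ∈ M, y ∈ Qz v → Small v y := by
    intro y hyM hyQ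
    have hcomm : ∀ m ∈ M, Commute v m → Commute y m := by
      intro m hm hvm
      rcases F.commutator_small hp2 hyM hm with h | h
      · exact commutatorElement_eq_one_iff_mul_comm.mp h
      · refine absurd ?_ hzQv
        rw [← h, show ⁅y, m⁆ = y * (m * y⁻¹ * m⁻¹) by rw [commutatorElement_def]; group]
        exact mul_mem hyQ (conj_mem_Qz hvm (inv_mem hyQ))
    have hcent : ∀ x ∈ M, (∀ m ∈ M, Commute v m → Commute x m) → Commute x l → Small z x := by
      intro x hx hxc hxl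
      refine hMfix x hx fun m hm => ?_
      rcases F.commutator_small hp2 (mul_mem hk hk2) hm with h | h
      · exact (hxc m hm (commutatorElement_eq_one_iff_mul_comm.mp h)).symm
      · have hml : Commute v (m * l⁻¹) := commute_iff_conj.mpr (by
          calc v * (m * l⁻¹) * v⁻¹ = ⁅v, m⁆ * m * (l⁻¹ * (v * l * v⁻¹ * l⁻¹)⁻¹) := by
                rw [commutatorElement_def]; group
            _ = z * m * (l⁻¹ * z⁻¹) := by rw [h, hvl]
            _ = (z * m) * (z⁻¹ * l⁻¹) := by rw [hzl.inv_inv.eq]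
            _ = m * l⁻¹ := by rw [(commute_of_mem_Qz (hMQ hm)).eq]; group)
        have := (hxc _ (mul_mem hm (inv_mem hl)) hml).mul_right hxl
        rw [inv_mul_cancel_right] at this
        exact this.symm
    rcases F.commutator_small hp2 hyM hl with h | h
    · rcases hcent y hyM hcomm (commutatorElement_eq_one_iff_mul_comm.mp h) with h1 | h1
      · exact Or.inl h1
      · exact absurd (h1 ▸ hyQ) hzQv
    · have hyv : Commute (y * v) l := commute_iff_conj.mpr (by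
        calc y * v * l * (y * v)⁻¹ = y * (v * l * v⁻¹ * l⁻¹) * l * y⁻¹ := by group
          _ = z * (y * l * y⁻¹) := by
              rw [hvl, ← (commute_of_mem_Qz (hMQ hyM)).eq]; group
          _ = z * (⁅y, l⁆ * l) := by rw [commutatorElement_def]; group
          _ = l := by rw [h, ← mul_assoc, hz, one_mul])
      have hy' := hcent (y * v) (mul_mem hyM (mul_mem hk hk2))
        (fun m hm hvm => (hcomm m hm hvm).mul_left hvm) hyv
      rcases hy' with h1 | h1
      · exact Or.inr ((eq_inv_of_mul_eq_one_left h1).trans (inv_eq_self hv))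
      · exact absurd (h1 ▸ mul_mem hyQ (mem_Qz_self hv)) hzQv
  -- `k` and `w` centralise the fixed points of `z` on `N`
  have hkill : ∀ g : G, g ∈ Qz z → Commute b g → Commute v g → ∀ x ∈ N, Commute z x →
      Commute g x := by
    intro g hgQ hbg hvg
    set X := N ⊓ centralizer ({z} : Set G) with hX
    have hXn : b ∈ normalizer (X : Set G) := mem_normalizer_of_forall fun x hx => by
      obtain ⟨h1, h2⟩ := mem_inf.mp hx
      exact mem_inf.mpr ⟨conj_mem_of_mem_normalizer hNb' h1, mem_centralizer_singleton.mpr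
        ((hbz.symm.mul_right (mem_centralizer_singleton.mp h2)).mul_right hbz.symm.inv_right)⟩
    intro x hxN hzx
    refine centralizes_of_fixed (X := X) hXn (hcopN X inf_le_left) hbg (fun y hy => ?_)
      (fun y hy hby => ?_) x (mem_inf.mpr ⟨hxN, mem_centralizer_singleton.mpr hzx⟩)
    · obtain ⟨hyN, hyz⟩ := mem_inf.mp hy
      set c := g * y * g⁻¹ * y⁻¹ with hc
      have hcN : c ∈ N :=
        mul_mem (conj_mem_of_mem_normalizer (hNnorm g hbg hvg) hyN) (inv_mem hyN)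
      have hcQ : c ∈ Qz z := by
        rw [show c = g * (y * g⁻¹ * y⁻¹) by rw [hc]; group]
        exact mul_mem hgQ (conj_mem_Qz (mem_centralizer_singleton.mp hyz) (inv_mem hgQ))
      have hu := hY ⁅c, b⁆ (commutator_mem_commutator hcQ hb) (by
        rw [show ⁅c, b⁆ = c * (b * c⁻¹ * b⁻¹) by rw [commutatorElement_def]; group]
        exact mul_mem (hNQ hcN) (conj_mem_Qz hbv.symm (inv_mem (hNQ hcN))))
      set u := ⁅c, b⁆ with hudef
      have e : b * c⁻¹ * b⁻¹ = c⁻¹ * u := by rw [hudef, commutatorElement_def]; group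
      have hpow : ∀ n : ℕ, b ^ n * c⁻¹ * (b ^ n)⁻¹ = c⁻¹ * u ^ n := by
        intro n
        induction n with
        | zero => simp
        | succ n ih =>
          calc b ^ (n + 1) * c⁻¹ * (b ^ (n + 1))⁻¹ = b * (b ^ n * c⁻¹ * (b ^ n)⁻¹) * b⁻¹ := by
                rw [pow_succ' b]; group
            _ = (b * c⁻¹ * b⁻¹) * (b * u ^ n * b⁻¹) := by rw [ih]; group
            _ = c⁻¹ * u ^ (n + 1) := by
                rw [e, commute_iff_conj.mp ((hsmb hu).pow_right n), mul_assoc, ← pow_succ']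
      have hup := hpow p
      rw [hBe b hb] at hup
      simp only [one_mul, inv_one, mul_one, left_eq_mul] at hup
      obtain ⟨m, hm⟩ := hp.out.odd_of_ne_two hp2
      have hu1 : u = 1 := by
        rw [hm, pow_succ, pow_mul, pow_two, F'.small_sq hu, one_pow, one_mul] at hup
        exact hup
      rw [hu1, mul_one] at e
      have hbc := (commute_iff_conj.mpr e).inv_right
      rwa [inv_inv] at hbc
    · rcases hNfix y (mem_inf.mp hy).1 hby with rfl | rfl
      · exact Commute.one_right g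
      · exact hvg.symm
  -- hence `z` centralises `N`
  have hwQ : w ∈ Qz z := hMQ (mul_mem hl hl2)
  have hzN : ∀ x ∈ N, Commute z x := by
    intro x hx
    have hzn := hNnorm z hbz hzv.symm
    set c := z * x * z⁻¹ * x⁻¹ with hc
    have hcN : c ∈ N := mul_mem (conj_mem_of_mem_normalizer hzn hx) (inv_mem hx)
    have hzc : Commute z c := hlift c hcN (by
      have : z * c * z⁻¹ = c⁻¹ := by
        calc z * c * z⁻¹ = (z * z) * x * (z * z)⁻¹ * (z * x * z⁻¹)⁻¹ := by rw [hc]; group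
          _ = c⁻¹ := by rw [hz, hc]; group
      rw [this]
      exact F'.sq_small hp2 (inv_mem hcN))
    have hd : ∀ g : G, g ∈ Qz z → Commute b g → Commute v g →
        Commute z (x⁻¹ * (g * x * g⁻¹)) ∧ x⁻¹ * (g * x * g⁻¹) ∈ N := by
      intro g hgQ hbg hvg
      refine ⟨commute_iff_conj.mpr ?_,
        mul_mem (inv_mem hx) (conj_mem_of_mem_normalizer (hNnorm g hbg hvg) hx)⟩
      have hgc := hkill g hgQ hbg hvg c hcN hzc
      calc z * (x⁻¹ * (g * x * g⁻¹)) * z⁻¹ = (z * x * z⁻¹)⁻¹ * ((z * g) * x * (z * g)⁻¹) := by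
            group
        _ = (c * x)⁻¹ * ((g * z) * x * (g * z)⁻¹) := by
            rw [(commute_of_mem_Qz hgQ).eq, hc]; group
        _ = (c * x)⁻¹ * ((g * c * g⁻¹) * (g * x * g⁻¹)) := by rw [hc]; group
        _ = _ := by rw [commute_iff_conj.mp hgc]; group
    obtain ⟨hdk, hdkN⟩ := hd k (hMQ hk) hbk hkv.symm
    obtain ⟨hdw, hdwN⟩ := hd w hwQ hbw hvw
    set d := x⁻¹ * (k * x * k⁻¹) with hddef
    set d' := x⁻¹ * (w * x * w⁻¹) with hd'def
    have ek : k * x * k⁻¹ = x * d := by rw [hddef]; group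
    have ew : w * x * w⁻¹ = x * d' := by rw [hd'def]; group
    have hkd' := commute_iff_conj.mp (hkill k (hMQ hk) hbk hkv.symm d' hdwN hdw)
    have hwd := commute_iff_conj.mp (hkill w hwQ hbw hvw d hdkN hdk)
    have ekw : (k * w) * x * (k * w)⁻¹ = x * d * d' := by
      calc _ = k * (w * x * w⁻¹) * k⁻¹ := by group
        _ = (k * x * k⁻¹) * (k * d' * k⁻¹) := by rw [ew]; group
        _ = _ := by rw [ek, hkd']
    have ewk : (w * k) * x * (w * k)⁻¹ = x * d' * d := by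
      calc _ = w * (k * x * k⁻¹) * w⁻¹ := by group
        _ = (w * x * w⁻¹) * (w * d * w⁻¹) := by rw [ek]; group
        _ = _ := by rw [ew, hwd]
    have hkwz : k * w = z * (w * k) := by rw [← hkconj]; group
    refine hlift x hx ?_
    have e2 : z * x * z⁻¹ * x⁻¹ = x * ⁅d, d'⁆ * x⁻¹ := by
      have e3 : z * (x * (d' * d)) * z⁻¹ = x * d * d' := by
        calc z * (x * (d' * d)) * z⁻¹ = z * ((w * k) * x * (w * k)⁻¹) * z⁻¹ := by
              rw [ewk]; group
          _ = (k * w) * x * (k * w)⁻¹ := by rw [hkwz]; group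
          _ = _ := ekw
      have e4 := commute_iff_conj.mp (hdw.mul_right hdk)
      calc z * x * z⁻¹ * x⁻¹ = z * (x * (d' * d)) * z⁻¹ * (z * (d' * d) * z⁻¹)⁻¹ * x⁻¹ := by group
        _ = _ := by rw [e3, e4, commutatorElement_def]; group
    have hs : Small v ⁅d, d'⁆ := F'.commutator_small hp2 hdkN hdwN
    rw [e2, commute_iff_conj.mp ((F'.small_commute hs (hNQ hx)).symm)]
    exact hs
  apply hzQv
  refine H.two v hv hv1 z hzv.symm fun q hq => ?_
  obtain ⟨n, hn, c, hc, rfl⟩ := Coprime.exists_commutator_mul_fixed hzbQ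
    (F'.coprime_sub hp2 (zpowers_le.mpr hbB') le_rfl)
    (Or.inl (Coprime.isSolvable_zpowers b)) hq
  obtain ⟨hcQ, hcb⟩ := mem_inf.mp hc
  rw [← hNb] at hn
  exact ((hzN n hn).mul_right
    (hfix c hcQ (mem_centralizer_iff.mp hcb b (mem_zpowers b))).2).symm

/-- A 2-subgroup normalised by `p^3` is trivial. -/
theorem no_local {T B : Subgroup G} (hT : IsPGroup 2 T) (hT1 : T ≠ ⊥)
    (hBT : B ≤ normalizer (T : Set G)) (hBc : IsMulCommutative B) (hBe : ∀ b ∈ B, b ^ p = 1)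
    (hB : p ^ 3 ≤ Nat.card B) : False := by
  have hinv : ∀ t : G, t * t = 1 → t ≠ 1 → ∃ a ∈ B, ¬ Commute t a := fun t ht ht1 => by
    by_contra h
    push Not at h
    exact H.no_rank_three hp2 ht ht1 hBc hBe hB h
  let A₀ : Subgroup G :=
    { carrier := {x | x ∈ T ∧ x * x = 1 ∧ ∀ y ∈ T, Commute x y}
      one_mem' := ⟨one_mem T, one_mul 1, fun y _ => Commute.one_left y⟩
      mul_mem' := fun {x y} hx hy => ⟨mul_mem hx.1 hy.1,
        by rw [(hy.2.2 x hx.1).mul_mul_mul_comm, hx.2.1, hy.2.1, one_mul],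
        fun u hu => (hx.2.2 u hu).mul_left (hy.2.2 u hu)⟩
      inv_mem' := fun {x} hx => ⟨inv_mem hx.1, by rw [← mul_inv_rev, hx.2.1, inv_one],
        fun u hu => (hx.2.2 u hu).inv_left⟩ }
  have hA₀n : B ≤ normalizer (A₀ : Set G) := fun b hb => mem_normalizer_of_forall fun x hx =>
    ⟨conj_mem_of_mem_normalizer (hBT hb) hx.1, by
      calc b * x * b⁻¹ * (b * x * b⁻¹) = b * (x * x) * b⁻¹ := by group
        _ = 1 := by rw [hx.2.1]; group, fun y hy => by
      have hy' : b⁻¹ * y * b ∈ T := (mem_normalizer_iff''.mp (hBT hb) y).mp hy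
      show b * x * b⁻¹ * y = y * (b * x * b⁻¹)
      calc b * x * b⁻¹ * y = b * (x * (b⁻¹ * y * b)) * b⁻¹ := by group
        _ = b * ((b⁻¹ * y * b) * x) * b⁻¹ := by rw [(hx.2.2 _ hy').eq]
        _ = _ := by group⟩
  have hA₀1 : A₀ ≠ ⊥ := by
    intro h0
    have hnt : Nontrivial T := (Subgroup.nontrivial_iff_ne_bot T).mpr hT1
    have : Nontrivial (Subgroup.center T) := hT.center_nontrivial
    haveI : Fact (Nat.Prime 2) := ⟨Nat.prime_two⟩
    have h2 : 2 ∣ Nat.card (Subgroup.center T) :=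
      by
      obtain ⟨n, hn⟩ := IsPGroup.iff_card.mp (hT.to_subgroup (Subgroup.center T))
      have h1 := Finite.one_lt_card (α := Subgroup.center T)
      rw [hn] at h1 ⊢
      exact dvd_pow_self 2 (by rintro rfl; simp at h1)
    obtain ⟨⟨⟨t, htT⟩, htc⟩, hto⟩ := exists_prime_orderOf_dvd_card' 2 h2
    have ht2 := pow_orderOf_eq_one (⟨⟨t, htT⟩, htc⟩ : Subgroup.center T)
    rw [hto] at ht2
    have htA : t ∈ A₀ := ⟨htT, by
      have := congrArg (fun x : Subgroup.center T => ((x : T) : G)) ht2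
      simpa [pow_two] using this, fun y hy =>
      (congrArg Subtype.val (Subgroup.mem_center_iff.mp htc ⟨y, hy⟩)).symm⟩
    rw [h0, mem_bot] at htA
    have h1 : (⟨⟨t, htT⟩, htc⟩ : Subgroup.center T) = 1 := Subtype.ext (Subtype.ext htA)
    rw [h1, orderOf_one] at hto
    omega
  have hcop : (Nat.card B).Coprime (Nat.card A₀) := by
    have hpB : IsPGroup p B := fun a => ⟨1, Subtype.ext (by simpa using hBe a a.2)⟩
    obtain ⟨i, hi⟩ := IsPGroup.iff_card.mp hpB
    obtain ⟨j, hj⟩ := IsPGroup.iff_card.mp (hT.to_le (show A₀ ≤ T from fun x hx => hx.1))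
    rw [hi, hj]
    exact Nat.Coprime.pow i j ((Nat.coprime_primes hp.out Nat.prime_two).mpr hp2)
  obtain ⟨E, hEB, hE2, t, htA, ht1, htE⟩ : ∃ E : Subgroup G, E ≤ B ∧ p ^ 2 ≤ Nat.card E ∧
      ∃ t ∈ A₀, t ≠ 1 ∧ ∀ e ∈ E, Commute e t := by
    by_contra h
    push Not at h
    apply hA₀1
    rw [eq_bot_iff]
    conv_lhs => rw [← Coprime.iSup_centralizer_cyclic_quotient_eq hA₀n hcop]
    refine iSup₂_le fun E hE => ?_
    obtain ⟨hEB, a, ha, hEa⟩ := hE
    intro x hx
    obtain ⟨hxA, hxE⟩ := mem_inf.mp hx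
    rw [mem_bot]
    by_contra hx1
    obtain ⟨e, he, hne⟩ := h E hEB (card_ge_sq_of_mod hBc hBe hB hEB ha hEa) x hxA hx1
    exact hne (mem_centralizer_iff.mp hxE e he)
  obtain ⟨a, ha, hat⟩ := hinv t htA.2.1 ht1
  set t' := a * t * a⁻¹ with ht'
  have ht'A : t' ∈ A₀ := conj_mem_of_mem_normalizer (hA₀n ha) htA
  have htt' : t' ≠ t := fun h => hat (commute_iff_conj.mpr h).symm
  have hEc : IsMulCommutative E := le_centralizer_iff_isMulCommutative.mp
    (hEB.trans ((le_centralizer_iff_isMulCommutative.mpr hBc).trans (centralizer_le hEB)))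
  have hEp : IsPGroup p E := fun x => ⟨1, Subtype.ext (by simpa using hBe x (hEB x.2))⟩
  have hE1 : E ≠ ⊥ := by
    intro h; rw [h, card_bot] at hE2
    exact absurd hE2 (not_le.mpr (Nat.one_lt_pow (by norm_num) hp.out.one_lt))
  have hEt : ∀ e ∈ E, Commute t e := fun e he => (htE e he).symm
  have hEt' : ∀ e ∈ E, Commute t' e := fun e he => by
    have hae : Commute e a :=
      congrArg Subtype.val (hBc.is_comm.comm ⟨e, hEB he⟩ ⟨a, ha⟩)
    exact ((hae.mul_right (htE e he)).mul_right hae.inv_right).symm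
  have hcomm : Commute t t' := htA.2.2 t' ht'A.1
  -- one of them moves the fixed points of the other
  have main : ∀ v z : G, v * v = 1 → z * z = 1 → v ≠ 1 → Commute v z →
      (∀ e ∈ E, Commute v e) → (∀ e ∈ E, Commute z e) →
      (¬ ∀ x ∈ Rc p E, Commute v x → Commute z x) → False := by
    intro v z hv hz hv1 hvz hvE hzE hmove
    set P := Rc p E ⊓ centralizer ({v} : Set G) with hP
    have hPp : IsPGroup p P := (Rc_isPGroup E).to_le inf_le_left
    have hEP : E ≤ P := le_inf (le_Rc hEp hEc)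
      (fun e he => mem_centralizer_singleton.mpr (hvE e he))
    have hzP : z ∈ normalizer (P : Set G) := mem_normalizer_of_forall fun x hx => by
      obtain ⟨h1, h2⟩ := mem_inf.mp hx
      exact mem_inf.mpr ⟨conj_mem_of_mem_normalizer (mem_normalizer_Rc hzE) h1,
        mem_centralizer_singleton.mpr
          ((hvz.mul_right (mem_centralizer_singleton.mp h2)).mul_right hvz.inv_right)⟩
    obtain ⟨A, hEA, hAP, hAc, hzA, -, hself⟩ := exists_selfCentral hPp hEP hEc
      (fun e he x hx => mem_centralizer_iff.mp (mem_inf.mp (mem_inf.mp hx).1).2 e he)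
      hz hz (Commute.refl z) hzP hzP hzE hzE
    obtain ⟨x, hxA, hxm⟩ : ∃ x ∈ A, ¬ Commute z x := by
      by_contra hcon
      push Not at hcon
      exact hmove fun x hx hvx => centralizes_of_centralizer_le hp2 hPp hz hzP
        (fun y hy hc => hcon y (hself y hy fun a ha => hc a (hAP ha) (hcon a ha))) x
        (mem_inf.mpr ⟨hx, mem_centralizer_singleton.mpr hvx⟩)
    obtain ⟨y, hyA, hyo, hyi⟩ := exists_inverted (hPp.to_le hAP) hz hzA hxA hxm
    obtain ⟨h1, h2, h3, h4⟩ := adjoin (hPp.to_le hAP) hp2 hAc hEA hEc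
      (fun e he => hBe e (hEB he)) hzE hyA hyo hyi
    refine H.no_rank_three hp2 hv hv1 h2 h3 (le_trans ?_ h4) fun e he =>
      mem_centralizer_singleton.mp (mem_inf.mp (hAP (h1 he))).2
    rw [pow_succ]
    exact Nat.mul_le_mul_right p hE2
  have ht'1 : t' ≠ 1 := fun h => ht1 (by
    calc t = a⁻¹ * t' * a := by rw [ht']; group
      _ = 1 := by rw [h]; group)
  by_cases h : ∀ x ∈ Rc p E, Commute t x → Commute t' x
  · refine main t' t ht'A.2.1 htA.2.1 ht'1 hcomm.symm hEt' hEt fun h' => ?_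
    exact H.not_same_fixed hp2 hEp hE1 hEc htA.2.1 ht'A.2.1 htt' hcomm hEt hEt'
      fun x hx => ⟨h' x hx, h x hx⟩
  · exact main t t' htA.2.1 ht'A.2.1 ht1 hcomm hEt hEt' h

end Hyp

end Cfsg.Agent.Lib.TwoPType
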