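import Cfsg.Agent.Lib.TwoPType.Basic

/-!
# A 2-group acted on by `p^3` all of whose `p^2`-subgroups fix a unique involution
-/

set_option autoImplicit false
set_option linter.unusedSectionVars false

namespace Cfsg.Agent.Lib.TwoPType

open Subgroup
open scoped commutatorElement

universe u

/-- Hypotheses on a 2-group `Q` with central involution `z` and acting `p`-group `B`. -/
structure Frame {G : Type u} [Group G] (p : ℕ) (Q B : Subgroup G) (z : G) : Prop where
  two : IsPGroup 2 Q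
  zQ : z ∈ Q
  zsq : z * z = 1
  zne : z ≠ 1
  central : ∀ q ∈ Q, Commute z q
  fixz : ∀ b ∈ B, Commute b z
  norm : B ≤ normalizer (Q : Set G)
  comm : IsMulCommutative B
  exp : ∀ b ∈ B, b ^ p = 1
  big : p ^ 3 ≤ Nat.card B
  faith : ∀ b ∈ B, (∀ q ∈ Q, Commute b q) → b = 1
  unique : ∀ E : Subgroup G, E ≤ B → p ^ 2 ≤ Nat.card E → ∀ x ∈ Q, x * x = 1 →
    (∀ e ∈ E, Commute e x) → x = 1 ∨ x = z

variable {G : Type u} [Group G] [Finite G] {p : ℕ} [hp : Fact p.Prime] {Q B : Subgroup G} {z : G}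

/-- Membership in `{1, z}`. -/
def Small (z x : G) : Prop := x = 1 ∨ x = z

namespace Frame

variable (F : Frame p Q B z) (hp2 : p ≠ 2)
include F

theorem small_mul {x y : G} (hx : Small z x) (hy : Small z y) : Small z (x * y) := by
  rcases hx with rfl | rfl <;> rcases hy with rfl | rfl
  · exact Or.inl (one_mul 1)
  · exact Or.inr (one_mul y)
  · exact Or.inr (mul_one x)
  · exact Or.inl F.zsq

theorem small_sq {x : G} (hx : Small z x) : x * x = 1 := by
  rcases hx with rfl | rfl
  · exact one_mul 1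
  · exact F.zsq

theorem small_inv {x : G} (hx : Small z x) : Small z x⁻¹ := by
  rwa [inv_eq_self (F.small_sq hx)]

theorem small_commute {x q : G} (hx : Small z x) (hq : q ∈ Q) : Commute x q := by
  rcases hx with rfl | rfl
  · exact Commute.one_left q
  · exact F.central q hq

theorem small_fix {x b : G} (hx : Small z x) (hb : b ∈ B) : Commute b x := by
  rcases hx with rfl | rfl
  · exact Commute.one_right b
  · exact F.fixz b hb

theorem small_mem {x : G} (hx : Small z x) : x ∈ Q := by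
  rcases hx with rfl | rfl
  · exact one_mem Q
  · exact F.zQ

theorem isPGroup_B : IsPGroup p B := fun a => ⟨1, Subtype.ext (by simpa using F.exp a a.2)⟩

include hp2 in
theorem coprime_sub {H K : Subgroup G} (hH : H ≤ B) (hK : K ≤ Q) :
    (Nat.card H).Coprime (Nat.card K) := by
  obtain ⟨i, hi⟩ := IsPGroup.iff_card.mp (F.isPGroup_B.to_le hH)
  obtain ⟨j, hj⟩ := IsPGroup.iff_card.mp (F.two.to_le hK)
  rw [hi, hj]
  exact Nat.Coprime.pow i j ((Nat.coprime_primes hp.out Nat.prime_two).mpr hp2)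

include hp2 in
/-- An invariant subgroup lies in any subgroup containing the fixed points of all `p^2`'s. -/
theorem le_of_fixed_le {K S : Subgroup G} (hK : K ≤ Q) (hBK : B ≤ normalizer (K : Set G))
    (h : ∀ E : Subgroup G, E ≤ B → p ^ 2 ≤ Nat.card E → Nat.card B ≤ p * Nat.card E →
      ∀ x ∈ K, (∀ e ∈ E, Commute e x) → x ∈ S) : K ≤ S := by
  have := F.comm
  conv_lhs => rw [← Coprime.iSup_centralizer_cyclic_quotient_eq hBK (F.coprime_sub hp2 le_rfl hK)]
  refine iSup₂_le fun E hE => ?_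
  obtain ⟨hEB, a, ha, hEa⟩ := hE
  have hcard : Nat.card B ≤ p * Nat.card E := by
    have hn : zpowers a ≤ normalizer (E : Set G) := by
      rw [zpowers_le]
      refine mem_normalizer_of_forall fun x hx => ?_
      rw [commute_iff_conj.mp (congrArg Subtype.val (F.comm.is_comm.comm ⟨a, ha⟩ ⟨x, hEB hx⟩))]
      exact hx
    have hle : Nat.card (zpowers a) ≤ p := by
      rw [Nat.card_zpowers]
      exact Nat.le_of_dvd hp.out.pos (orderOf_dvd_of_pow_eq_one (F.exp a ha))
    calc Nat.card B = Nat.card ↥(zpowers a ⊔ E) := by rw [sup_comm, hEa]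
      _ ≤ Nat.card (zpowers a) * Nat.card E := by
          rw [← SetLike.coe_sort_coe (zpowers a ⊔ E), coe_mul_of_left_le_normalizer_right _ _ hn]
          exact Set.natCard_mul_le
      _ ≤ _ := Nat.mul_le_mul_right _ hle
  have h2 : p ^ 2 ≤ Nat.card E := by
    have := F.big.trans hcard
    rw [pow_succ'] at this
    exact Nat.le_of_mul_le_mul_left this hp.out.pos
  intro x hx
  obtain ⟨hxK, hxE⟩ := mem_inf.mp hx
  exact h E hEB h2 hcard x hxK (fun e he => mem_centralizer_iff.mp hxE e he)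

include hp2 in
/-- Invariant elementary abelian subgroups are central of order at most two. -/
theorem small_of_elementary {A : Subgroup G} (hA : A ≤ Q) (hBA : B ≤ normalizer (A : Set G))
    (h2 : ∀ x ∈ A, x * x = 1) {x : G} (hx : x ∈ A) : Small z x := by
  have : A ≤ zpowers z := by
    refine F.le_of_fixed_le hp2 hA hBA fun E hE hE2 _ y hy hfix => ?_
    rcases F.unique E hE hE2 y (hA hy) (h2 y hy) hfix with rfl | rfl
    · exact one_mem _
    · exact mem_zpowers _
  obtain ⟨n, rfl⟩ := this hx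
  rcases Int.even_or_odd n with ⟨m, rfl⟩ | ⟨m, rfl⟩
  · left; simp only [zpow_add, ← (Commute.refl z).mul_zpow, F.zsq, one_zpow]
  · right; simp only [zpow_add, two_mul, zpow_one, ← (Commute.refl z).mul_zpow, F.zsq, one_zpow,
      one_mul]

include hp2 in
/-- `B` centralises invariant abelian subgroups. -/
theorem fixes_abelian {A : Subgroup G} (hAc : IsMulCommutative A) (hA : A ≤ Q)
    (hBA : B ≤ normalizer (A : Set G)) : B ≤ centralizer (A : Set G) := by
  refine Coprime.le_centralizer_of_prime_order hBA (F.coprime_sub hp2 le_rfl hA)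
    fun v hv hpr b hb => ?_
  let A₀ : Subgroup G :=
    { carrier := {x | x ∈ A ∧ x * x = 1}
      one_mem' := ⟨one_mem A, one_mul 1⟩
      mul_mem' := fun {x y} hx hy => ⟨mul_mem hx.1 hy.1, by
        have e : Commute x y := congrArg Subtype.val (hAc.is_comm.comm ⟨x, hx.1⟩ ⟨y, hy.1⟩)
        rw [e.symm.mul_mul_mul_comm, hx.2, hy.2, one_mul]⟩
      inv_mem' := fun {x} hx => ⟨inv_mem hx.1, by rw [← mul_inv_rev, hx.2, inv_one]⟩ }
  have hv2 : v * v = 1 := by
    obtain ⟨k, hk⟩ := F.two ⟨v, hA hv⟩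
    have h1 : orderOf v ∣ 2 ^ k := orderOf_dvd_of_pow_eq_one (congrArg Subtype.val hk)
    have h2 := (Nat.prime_dvd_prime_iff_eq hpr Nat.prime_two).mp (hpr.dvd_of_dvd_pow h1)
    have h3 := pow_orderOf_eq_one v
    rwa [h2, pow_two] at h3
  have hB0 : B ≤ normalizer (A₀ : Set G) := fun c hc => mem_normalizer_of_forall fun x hx =>
    ⟨conj_mem_of_mem_normalizer (hBA hc) hx.1, by
      calc c * x * c⁻¹ * (c * x * c⁻¹) = c * (x * x) * c⁻¹ := by group
        _ = 1 := by rw [hx.2]; group⟩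
  exact (F.small_fix (F.small_of_elementary hp2 (A := A₀) (fun x hx => hA hx.1) hB0 (fun x hx => hx.2)
    (show v ∈ A₀ from ⟨hv, hv2⟩)) hb).eq

local notation "M" => (⁅Q, B⁆ : Subgroup G)

theorem M_le : M ≤ Q := Coprime.commutator_le_of_le_normalizer F.norm

theorem Q_norm_M : Q ≤ normalizer (M : Set G) := Coprime.left_le_normalizer_commutator Q B

theorem B_norm_M : B ≤ normalizer (M : Set G) := Coprime.right_le_normalizer_commutator Q B

include hp2 in
theorem M_idem : ⁅M, B⁆ = M :=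
  Coprime.commutator_commutator_eq F.norm (F.coprime_sub hp2 le_rfl le_rfl)
    (Or.inl (Coprime.isSolvable_of_isPGroup F.isPGroup_B))

include hp2 in
/-- `M` centralises invariant normal abelian subgroups. -/
theorem central_of_normal_abelian {A : Subgroup G} (hAc : IsMulCommutative A) (hA : A ≤ Q)
    (hBA : B ≤ normalizer (A : Set G)) (hQA : Q ≤ normalizer (A : Set G)) :
    M ≤ centralizer (A : Set G) := by
  have hfix : ∀ b ∈ B, ∀ a ∈ A, Commute b a := fun b hb a ha =>
    (mem_centralizer_iff.mp (F.fixes_abelian hp2 hAc hA hBA hb) a ha).symm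
  rw [commutator_le]
  intro q hq b hb
  rw [mem_centralizer_iff]
  intro a ha
  have ha' : q⁻¹ * a * q ∈ A := (mem_normalizer_iff''.mp (hQA hq) a).mp ha
  have e2 := commute_iff_conj.mp (hfix b hb _ ha')
  have e3 := commute_iff_conj.mp (hfix b hb a ha)
  refine Commute.eq (Commute.symm (commute_iff_conj.mpr ?_))
  calc ⁅q, b⁆ * a * ⁅q, b⁆⁻¹ = q * (b * (q⁻¹ * (b⁻¹ * a * b) * q) * b⁻¹) * q⁻¹ := by
        rw [commutatorElement_def]; group
    _ = q * (b * (q⁻¹ * a * q) * b⁻¹) * q⁻¹ := by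
        rw [show b⁻¹ * a * b = a by rw [mul_assoc, ← (hfix b hb a ha).eq, inv_mul_cancel_left]]
    _ = a := by rw [e2]; group

include hp2 in
/-- `M` has class at most two. -/
theorem commutator_central : ⁅(M : Subgroup G), M⁆ ≤ centralizer (M : Set G) := by
  have hnil : Group.IsNilpotent M := (F.two.to_le F.M_le).isNilpotent
  obtain ⟨n, hn⟩ := (Subgroup.isNilpotent_iff_lowerCentralSeries M).mp hnil
  set D := fun i => (M : Subgroup G).lowerCentralSeries i with hD
  have hDM : ∀ i, D i ≤ M := fun i => Subgroup.lowerCentralSeries_le_self _ i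
  have hnorm : ∀ (H : Subgroup G), H ≤ normalizer (M : Set G) → ∀ i,
      H ≤ normalizer (D i : Set G) := by
    intro H hH i
    induction i with
    | zero => exact hH
    | succ i ih =>
      intro g hg
      refine mem_normalizer_of_forall fun x hx => ?_
      have : (D (i + 1)).map (MulAut.conj g).toMonoidHom ≤ D (i + 1) := by
        show (⁅D i, (M : Subgroup G)⁆).map _ ≤ ⁅D i, (M : Subgroup G)⁆
        rw [map_commutator]
        refine commutator_mono ?_ ?_
        · rintro _ ⟨y, hy, rfl⟩; exact conj_mem_of_mem_normalizer (ih hg) hy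
        · rintro _ ⟨y, hy, rfl⟩; exact conj_mem_of_mem_normalizer (hH hg) hy
      exact this ⟨x, hx, rfl⟩
  have key : ∀ i, 1 ≤ i → ⁅D (i + 1), (M : Subgroup G)⁆ = ⊥ → ⁅D i, (M : Subgroup G)⁆ = ⊥ := by
    intro i hi h
    have hab : IsMulCommutative (D i) := by
      rw [← le_centralizer_iff_isMulCommutative, ← commutator_eq_bot_iff_le_centralizer]
      have h1 : ⁅⁅(M : Subgroup G), M⁆, D i⁆ = ⊥ := by
        apply commutator_commutator_eq_bot_of_rotate
        · rw [commutator_comm (M : Subgroup G) (D i)]; exact h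
        · exact h
      refine le_bot_iff.mp (le_trans (commutator_mono ?_ le_rfl) h1.le)
      exact Subgroup.lowerCentralSeries_antitone (M : Subgroup G) hi
    rw [commutator_eq_bot_iff_le_centralizer]
    exact le_centralizer_iff.mp (F.central_of_normal_abelian hp2 hab ((hDM i).trans F.M_le)
      (hnorm B F.B_norm_M i) (hnorm Q F.Q_norm_M i))
  have down : ∀ j i, 1 ≤ i → ⁅D (i + j), (M : Subgroup G)⁆ = ⊥ → ⁅D i, (M : Subgroup G)⁆ = ⊥ := by
    intro j
    induction j with
    | zero => intro i _ h; exact h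
    | succ j ih => intro i hi h; exact ih i hi (key (i + j) (by omega) h)
  have hbot : ⁅D (1 + n), (M : Subgroup G)⁆ = ⊥ := by
    have h0 : D (1 + n) = ⊥ := le_bot_iff.mp (hn ▸
      Subgroup.lowerCentralSeries_antitone (M : Subgroup G) (Nat.le_add_left n 1))
    rw [h0, commutator_bot_left]
  exact commutator_eq_bot_iff_le_centralizer.mp (down n 1 le_rfl hbot)

include hp2 in
theorem commute_commutator {x y w : G} (hx : x ∈ M) (hy : y ∈ M) (hw : w ∈ M) :
    Commute w ⁅x, y⁆ :=
  mem_centralizer_iff.mp (F.commutator_central hp2 (commutator_mem_commutator hx hy)) w hw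

include hp2 in
theorem commutator_mul_left {x x' y : G} (hx : x ∈ M) (hx' : x' ∈ M) (hy : y ∈ M) :
    ⁅x * x', y⁆ = ⁅x', y⁆ * ⁅x, y⁆ := by
  have h := commute_iff_conj.mp (F.commute_commutator hp2 hx' hy hx)
  calc ⁅x * x', y⁆ = (x * ⁅x', y⁆ * x⁻¹) * ⁅x, y⁆ := by simp only [commutatorElement_def]; group
    _ = _ := by rw [h]

include hp2 in
theorem commutator_pow {x y : G} (hx : x ∈ M) (hy : y ∈ M) (n : ℕ) : ⁅x ^ n, y⁆ = ⁅x, y⁆ ^ n := by
  induction n with
  | zero => simp
  | succ n ih =>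
    rw [pow_succ x, F.commutator_mul_left hp2 (pow_mem hx n) hx hy, ih, pow_succ']

include hp2 in
theorem commutator_pow_right {x y : G} (hx : x ∈ M) (hy : y ∈ M) (n : ℕ) :
    ⁅x, y ^ n⁆ = ⁅x, y⁆ ^ n := by
  rw [← commutatorElement_inv, F.commutator_pow hp2 hy hx, ← inv_pow, commutatorElement_inv]

include hp2 in
theorem fixes_commutator {x y b : G} (hx : x ∈ M) (hy : y ∈ M) (hb : b ∈ B) :
    Commute b ⁅x, y⁆ := by
  have hab : IsMulCommutative (⁅(M : Subgroup G), M⁆ : Subgroup G) := by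
    rw [← le_centralizer_iff_isMulCommutative]
    exact (F.commutator_central hp2).trans
      (centralizer_le (Coprime.commutator_le_of_le_normalizer le_normalizer))
  have hn : B ≤ normalizer ((⁅(M : Subgroup G), M⁆ : Subgroup G) : Set G) := by
    intro g hg
    refine mem_normalizer_of_forall fun w hw => ?_
    have : (⁅(M : Subgroup G), M⁆ : Subgroup G).map (MulAut.conj g).toMonoidHom ≤
        ⁅(M : Subgroup G), M⁆ := by
      rw [map_commutator]
      refine commutator_mono ?_ ?_ <;>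
      · rintro _ ⟨v, hv, rfl⟩; exact conj_mem_of_mem_normalizer (F.B_norm_M hg) hv
    exact this ⟨w, hw, rfl⟩
  have h := F.fixes_abelian hp2 hab
    ((Coprime.commutator_le_of_le_normalizer le_normalizer).trans F.M_le) hn hb
  exact (mem_centralizer_iff.mp h _ (commutator_mem_commutator hx hy)).symm

include hp2 in
/-- Commutators in `M` are involutions. -/
theorem commutator_sq {x y : G} (hx : x ∈ M) (hy : y ∈ M) : ⁅x, y⁆ * ⁅x, y⁆ = 1 := by
  have hM : IsPGroup 2 M := F.two.to_le F.M_le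
  obtain ⟨t, ht⟩ := IsPGroup.iff_card.mp hM
  let P := fun j : ℕ => ∀ u ∈ (M : Subgroup G), ∀ w ∈ (M : Subgroup G), ⁅u, w⁆ ^ 2 ^ j = 1
  have hmono : ∀ i j, i ≤ j → P i → P j := fun i j hij h u hu w hw => by
    rw [← Nat.add_sub_cancel' hij, pow_add, pow_mul, h u hu w hw, one_pow]
  have hstep : ∀ j, P (j + j) → 1 ≤ j → P j := by
    intro j hj hj1
    set L := Subgroup.closure ((fun u => u ^ 2 ^ j) '' ((M : Subgroup G) : Set G)) with hL
    have hLM : L ≤ M := by
      rw [hL, Subgroup.closure_le]; rintro _ ⟨u, hu, rfl⟩; exact pow_mem hu _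
    have hLc : IsMulCommutative L := by
      refine isMulCommutative_closure ?_
      rintro _ ⟨u, hu, rfl⟩ _ ⟨w, hw, rfl⟩
      refine (commutatorElement_eq_one_iff_mul_comm.mp ?_)
      rw [F.commutator_pow hp2 hu (pow_mem hw _), F.commutator_pow_right hp2 hu hw, ← pow_mul,
        ← pow_add]
      exact hj u hu w hw
    have hLn : ∀ H : Subgroup G, H ≤ normalizer (M : Set G) → H ≤ normalizer (L : Set G) := by
      intro H hH g hg
      refine mem_normalizer_of_forall fun w hw => ?_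
      have : L.map (MulAut.conj g).toMonoidHom ≤ L := by
        rw [hL, MonoidHom.map_closure]
        refine Subgroup.closure_mono ?_
        rintro _ ⟨_, ⟨u, hu, rfl⟩, rfl⟩
        exact ⟨_, conj_mem_of_mem_normalizer (hH hg) hu, (map_pow (MulAut.conj g) u _).symm⟩
      exact this ⟨w, hw, rfl⟩
    have hcen := F.central_of_normal_abelian hp2 hLc (hLM.trans F.M_le) (hLn B F.B_norm_M)
      (hLn Q F.Q_norm_M)
    intro u hu w hw
    rw [← F.commutator_pow hp2 hu hw, commutatorElement_eq_one_iff_mul_comm]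
    exact (mem_centralizer_iff.mp (hcen hw) _ (Subgroup.subset_closure ⟨u, hu, rfl⟩))
  have hall : ∀ j, P j → P 1 := by
    intro j
    induction j using Nat.strong_induction_on with
    | _ j ih =>
      intro hj
      rcases Nat.lt_or_ge j 2 with h | h
      · exact hmono j 1 (by omega) hj
      · exact ih ((j + 1) / 2) (by omega)
          (hstep ((j + 1) / 2) (hmono j _ (by omega) hj) (by omega))
  have hP : P t := fun u hu w hw => by
    have hm : ⁅u, w⁆ ∈ (M : Subgroup G) :=
      mul_mem (mul_mem (mul_mem hu hw) (inv_mem hu)) (inv_mem hw)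
    have := congrArg Subtype.val (pow_card_eq_one' (x := (⟨_, hm⟩ : (M : Subgroup G))))
    rw [ht] at this
    exact this
  have := hall t hP x hx y hy
  rwa [pow_one, pow_two] at this

include hp2 in
/-- `M' ≤ ⟨z⟩`. -/
theorem commutator_small {x y : G} (hx : x ∈ M) (hy : y ∈ M) : Small z ⁅x, y⁆ := by
  set A := Subgroup.closure {c : G | ∃ u ∈ (M : Subgroup G), ∃ w ∈ (M : Subgroup G), ⁅u, w⁆ = c} with hA
  have hmem : ∀ c ∈ A, c ∈ (M : Subgroup G) ∧ c * c = 1 ∧
      (∀ w ∈ (M : Subgroup G), Commute w c) ∧ ∀ b ∈ B, Commute b c := by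
    intro c hc
    induction hc using Subgroup.closure_induction with
    | mem c hc =>
      obtain ⟨u, hu, w, hw, rfl⟩ := hc
      exact ⟨mul_mem (mul_mem (mul_mem hu hw) (inv_mem hu)) (inv_mem hw),
        F.commutator_sq hp2 hu hw, fun v hv => F.commute_commutator hp2 hu hw hv,
        fun b hb => F.fixes_commutator hp2 hu hw hb⟩
    | one => exact ⟨one_mem _, one_mul 1, fun w _ => Commute.one_right w,
        fun b _ => Commute.one_right b⟩
    | mul c d _ _ hc hd =>
      exact ⟨mul_mem hc.1 hd.1,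
        by rw [((hd.2.2.1 c hc.1).symm).mul_mul_mul_comm, hc.2.1, hd.2.1, one_mul],
        fun w hw => (hc.2.2.1 w hw).mul_right (hd.2.2.1 w hw),
        fun b hb => (hc.2.2.2 b hb).mul_right (hd.2.2.2 b hb)⟩
    | inv c _ hc => exact ⟨inv_mem hc.1, by rw [← mul_inv_rev, hc.2.1, inv_one],
        fun w hw => (hc.2.2.1 w hw).inv_right, fun b hb => (hc.2.2.2 b hb).inv_right⟩
  refine F.small_of_elementary hp2 (fun c hc => F.M_le (hmem c hc).1) ?_ (fun c hc => (hmem c hc).2.1)
    (Subgroup.subset_closure ⟨x, hx, y, hy, rfl⟩)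
  exact fun b hb => mem_normalizer_of_forall fun c hc => by
    rw [commute_iff_conj.mp ((hmem c hc).2.2.2 b hb)]; exact hc

include hp2 in
/-- Squares in `M` lie in `⟨z⟩`. -/
theorem sq_small {x : G} (hx : x ∈ M) : Small z (x * x) := by
  let S : Subgroup G :=
    { carrier := {x | x ∈ (M : Subgroup G) ∧ Small z (x * x)}
      one_mem' := ⟨one_mem _, Or.inl (one_mul 1)⟩
      mul_mem' := fun {a c} ha hc => ⟨mul_mem ha.1 hc.1, by
        have hs := F.commutator_small hp2 hc.1 ha.1
        have e : a * c * (a * c) = (a * ⁅c, a⁆ * a⁻¹) * (a * a) * (c * c) := by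
          rw [commutatorElement_def]; group
        rw [e, commute_iff_conj.mp ((F.small_commute hs (F.M_le ha.1)).symm)]
        exact F.small_mul (F.small_mul hs ha.2) hc.2⟩
      inv_mem' := fun {a} ha => ⟨inv_mem ha.1, by rw [← mul_inv_rev]; exact F.small_inv ha.2⟩ }
  have hsqc : ∀ u ∈ (M : Subgroup G), ∀ w ∈ (M : Subgroup G), Commute w (u * u) := by
    intro u hu w hw
    refine Commute.symm (commutatorElement_eq_one_iff_mul_comm.mp ?_)
    rw [← pow_two, F.commutator_pow hp2 hu hw, pow_two, F.commutator_sq hp2 hu hw]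
  have hab : IsMulCommutative (Subgroup.closure ((fun u => u * u) '' ((M : Subgroup G) : Set G))) := by
    refine isMulCommutative_closure ?_
    rintro _ ⟨u, hu, rfl⟩ _ ⟨w, hw, rfl⟩
    exact ((hsqc w hw (u * u) (mul_mem hu hu))).eq
  have hfix : ∀ u ∈ (M : Subgroup G), ∀ b ∈ B, Commute b (u * u) := by
    intro u hu b hb
    refine (mem_centralizer_iff.mp (F.fixes_abelian hp2 hab ?_ ?_ hb) _
      (Subgroup.subset_closure ⟨u, hu, rfl⟩)).symm
    · rw [Subgroup.closure_le]; rintro _ ⟨w, hw, rfl⟩; exact F.M_le (mul_mem hw hw)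
    · intro g hg
      refine mem_normalizer_of_forall fun w hw => ?_
      have : (Subgroup.closure ((fun u => u * u) '' ((M : Subgroup G) : Set G))).map
          (MulAut.conj g).toMonoidHom ≤ Subgroup.closure ((fun u => u * u) '' ((M : Subgroup G) : Set G)) := by
        rw [MonoidHom.map_closure]
        refine Subgroup.closure_mono ?_
        rintro _ ⟨_, ⟨v, hv, rfl⟩, rfl⟩
        exact ⟨_, conj_mem_of_mem_normalizer (F.B_norm_M hg) hv, (map_mul (MulAut.conj g) v v).symm⟩
      exact this ⟨w, hw, rfl⟩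
  have hMS : (M : Subgroup G) ≤ S := by
    conv_lhs => rw [← F.M_idem hp2]
    rw [commutator_le]
    intro u hu b hb
    have hbu := conj_mem_of_mem_normalizer (F.B_norm_M hb) (inv_mem hu)
    have e : ⁅u, b⁆ = u * (b * u⁻¹ * b⁻¹) := by rw [commutatorElement_def]; group
    refine ⟨by rw [e]; exact mul_mem hu hbu, ?_⟩
    set w := b * u⁻¹ * b⁻¹ with hw
    have hww : w * w = (u * u)⁻¹ := by
      calc w * w = b * (u * u)⁻¹ * b⁻¹ := by rw [hw]; group
        _ = _ := commute_iff_conj.mp (hfix u hu b hb).inv_right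
    have hs := F.commutator_small hp2 hbu hu
    have e2 : u * w * (u * w) = (u * ⁅w, u⁆ * u⁻¹) * (u * u) * (w * w) := by
      rw [commutatorElement_def]; group
    rw [e, e2, commute_iff_conj.mp ((F.small_commute hs (F.M_le hu)).symm), hww,
      mul_inv_cancel_right]
    exact hs
  exact (hMS hx).2

include hp2 in
/-- Some `p^2` fixes in `M` a point moved by `B`. -/
theorem exists_moved : ∃ E : Subgroup G, E ≤ B ∧ p ^ 2 ≤ Nat.card E ∧
    Nat.card B ≤ p * Nat.card E ∧ ∃ x ∈ (M : Subgroup G), (∀ e ∈ E, Commute e x) ∧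
      ¬ ∀ b ∈ B, Commute b x := by
  by_contra h
  push Not at h
  have hM : (M : Subgroup G) ≤ centralizer (B : Set G) :=
    F.le_of_fixed_le hp2 F.M_le F.B_norm_M fun E hE h2 h3 x hx hfix =>
      mem_centralizer_iff.mpr fun b hb => (h E hE h2 h3 x hx hfix b hb).eq
  have hB : B ≤ centralizer (Q : Set G) :=
    Coprime.le_centralizer_of_commutator_commutator (F.coprime_sub hp2 le_rfl F.M_le)
      (commutator_eq_bot_iff_le_centralizer.mpr hM)
  have : B = ⊥ := (eq_bot_iff_forall _).mpr fun b hb => F.faith b hb fun q hq =>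
    (mem_centralizer_iff.mp (hB hb) q hq).symm
  have h1 := F.big
  rw [this, card_bot] at h1
  exact absurd h1 (not_le.mpr (Nat.one_lt_pow (by norm_num) hp.out.one_lt))

include hp2 in
/-- `C_M(B) = ⟨z⟩`. -/
theorem small_of_fixed {x : G} (hx : x ∈ M) (hfix : ∀ b ∈ B, Commute b x) : Small z x := by
  obtain ⟨E, hE, hE2, -, y, hy, hyE, hyB⟩ := F.exists_moved hp2
  rcases F.sq_small hp2 hx with hx2 | hx2
  · exact F.unique E hE hE2 x (F.M_le hx) hx2 fun e he => hfix e (hE he)
  exfalso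
  have hcent : Commute x y := by
    refine Commute.symm (mem_centralizer_singleton.mp ?_).symm
    have hle : (M : Subgroup G) ≤ centralizer {x} := by
      conv_lhs => rw [← F.M_idem hp2]
      exact commutator_le_centralizer hfix F.B_norm_M fun u hu b hb =>
        F.fixes_commutator hp2 hx hu hb
    exact hle hy
  rcases F.sq_small hp2 hy with hy2 | hy2
  · refine hyB fun b hb => F.small_fix ?_ hb
    exact F.unique E hE hE2 y (F.M_le hy) hy2 hyE
  · refine hyB fun b hb => ?_
    have hs : Small z (x * y) := F.unique E hE hE2 _ (F.M_le (mul_mem hx hy))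
      (by rw [hcent.symm.mul_mul_mul_comm, hx2, hy2, F.zsq])
      (fun e he => (hfix e (hE he)).mul_right (hyE e he))
    have : Commute b (x⁻¹ * (x * y)) := (hfix b hb).inv_right.mul_right (F.small_fix hs hb)
    rwa [inv_mul_cancel_left] at this

include hp2 in
/-- Two commuting quaternion pieces with a common fixed point in `B`. -/
theorem exists_pairs : ∃ b ∈ B, b ≠ 1 ∧ ∃ k₁ l₁ k₂ l₂ : G,
    k₁ ∈ (M : Subgroup G) ∧ l₁ ∈ (M : Subgroup G) ∧ k₂ ∈ (M : Subgroup G) ∧
      l₂ ∈ (M : Subgroup G) ∧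
    Commute b k₁ ∧ Commute b l₁ ∧ Commute b k₂ ∧ Commute b l₂ ∧
    k₁ * k₁ = z ∧ l₁ * l₁ = z ∧ k₂ * k₂ = z ∧ l₂ * l₂ = z ∧
    Commute k₁ k₂ ∧ Commute k₁ l₂ ∧ Commute l₁ k₂ ∧ Commute l₁ l₂ ∧
    ⁅k₁, l₁⁆ = z ∧ ⁅k₂, l₂⁆ = z := by
  have hsq : ∀ E : Subgroup G, E ≤ B → p ^ 2 ≤ Nat.card E → ∀ x ∈ (M : Subgroup G),
      (∀ e ∈ E, Commute e x) → (¬ ∀ b ∈ B, Commute b x) → x * x = z := by
    intro E hE h2 x hx hfix hmov
    rcases F.sq_small hp2 hx with h | h
    · exact absurd (fun b hb => F.small_fix (F.unique E hE h2 x (F.M_le hx) h hfix) hb) hmov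
    · exact h
  have hpair : ∀ E : Subgroup G, E ≤ B → p ^ 2 ≤ Nat.card E → ∀ x ∈ (M : Subgroup G),
      (∀ e ∈ E, Commute e x) → (¬ ∀ b ∈ B, Commute b x) →
      ∃ y ∈ (M : Subgroup G), (∀ e ∈ E, Commute e y) ∧ (¬ ∀ b ∈ B, Commute b y) ∧ ⁅x, y⁆ = z := by
    intro E hE h2 x hx hfix hmov
    push Not at hmov
    obtain ⟨b, hb, hbx⟩ := hmov
    set y := b * x * b⁻¹ with hy
    have hyM : y ∈ (M : Subgroup G) := conj_mem_of_mem_normalizer (F.B_norm_M hb) hx
    have hyfix : ∀ e ∈ E, Commute e y := fun e he => by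
      have he' : Commute e b := congrArg Subtype.val (F.comm.is_comm.comm ⟨e, hE he⟩ ⟨b, hb⟩)
      exact (he'.mul_right (hfix e he)).mul_right he'.inv_right
    have hymov : ¬ ∀ c ∈ B, Commute c y := fun hc => hbx (commute_iff_conj.mpr (by
      have := commute_iff_conj.mp (hc b hb)
      calc b * x * b⁻¹ = b⁻¹ * (b * (b * x * b⁻¹) * b⁻¹) * b := by group
        _ = b⁻¹ * y * b := by rw [← hy, this]
        _ = x := by rw [hy]; group))
    refine ⟨y, hyM, hyfix, hymov, ?_⟩
    rcases F.commutator_small hp2 hx hyM with h | h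
    · exfalso
      have hc : Commute x y := commutatorElement_eq_one_iff_mul_comm.mp h
      have hxx := hsq E hE h2 x hx hfix (fun h' => hbx (h' b hb))
      have hyy := hsq E hE h2 y hyM hyfix hymov
      have hs : Small z (x * y) := F.unique E hE h2 _ (F.M_le (mul_mem hx hyM))
        (by rw [hc.symm.mul_mul_mul_comm, hxx, hyy, F.zsq])
        (fun e he => (hfix e he).mul_right (hyfix e he))
      apply hbx
      -- `b` carries `x` to `x⁻¹` times an element it fixes
      have hyx : y = x⁻¹ * (x * y) := by group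
      have hcx : Commute x (x * y) := (Commute.refl x).mul_right hc
      have hb2 : b ^ 2 * x * (b ^ 2)⁻¹ = x := by
        calc b ^ 2 * x * (b ^ 2)⁻¹ = b * y * b⁻¹ := by rw [hy, pow_two]; group
          _ = (b * x * b⁻¹)⁻¹ * (b * (x * y) * b⁻¹) := by rw [hyx]; group
          _ = y⁻¹ * (x * y) := by rw [← hy, commute_iff_conj.mp (F.small_fix hs hb)]
          _ = x := by rw [hc.eq]; group
      obtain ⟨m, hm⟩ := hp.out.odd_of_ne_two hp2
      have h2m : Commute ((b ^ 2) ^ (m + 1)) x := (commute_iff_conj.mpr hb2).pow_left _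
      rwa [← pow_mul, show 2 * (m + 1) = p + 1 by omega, pow_succ, F.exp b hb, one_mul] at h2m
    · exact h
  obtain ⟨E₁, hE1, hE1c, hE1m, x₁, hx1, hfix1, hmov1⟩ := F.exists_moved hp2
  obtain ⟨E₂, hE2, hE2c, hE2m, x₂, hx2, hfix2, hmov2, hne⟩ : ∃ E₂ : Subgroup G, E₂ ≤ B ∧
      p ^ 2 ≤ Nat.card E₂ ∧ Nat.card B ≤ p * Nat.card E₂ ∧ ∃ x ∈ (M : Subgroup G),
        (∀ e ∈ E₂, Commute e x) ∧ (¬ ∀ b ∈ B, Commute b x) ∧ ¬ E₂ ≤ E₁ := by
    by_contra h
    push Not at h
    have hM : (M : Subgroup G) ≤ centralizer (E₁ : Set G) := by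
      refine F.le_of_fixed_le hp2 F.M_le F.B_norm_M fun E hE h2 h3 x hx hfix => ?_
      rw [mem_centralizer_iff]
      intro e he
      by_cases hall : ∀ b ∈ B, Commute b x
      · exact (hall e (hE1 he)).eq
      push Not at hall
      obtain ⟨c, hc, hcx⟩ := hall
      have hle := h E hE h2 h3 x hx hfix ⟨c, hc, hcx⟩
      -- then `E = E₁` by cardinality
      by_cases heq : E₁ ≤ E
      · exact (hfix e (heq he)).eq
      · exfalso
        obtain ⟨i, hi⟩ := IsPGroup.iff_card.mp (F.isPGroup_B.to_le hE)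
        obtain ⟨j, hj⟩ := IsPGroup.iff_card.mp (F.isPGroup_B.to_le hE1)
        have hlt : Nat.card E < Nat.card E₁ := lt_of_le_of_ne (card_le_of_le hle) fun hh =>
          heq (Subgroup.eq_of_le_of_card_ge hle hh.ge).ge
        have hEB : E₁ = B := by
          refine Subgroup.eq_of_le_of_card_ge hE1 (h3.trans ?_)
          rw [hi, hj] at hlt ⊢
          rw [← pow_succ']
          exact Nat.pow_le_pow_right hp.out.pos ((Nat.pow_lt_pow_iff_right hp.out.one_lt).mp hlt)
        exact hmov1 fun b hb => hfix1 b (hEB ▸ hb)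
    have hEQ : E₁ ≤ centralizer (Q : Set G) :=
      Coprime.le_centralizer_of_series (F.coprime_sub hp2 hE1 F.M_le)
        (commutator_mono le_rfl hE1) (commutator_eq_bot_iff_le_centralizer.mpr hM)
    have : E₁ = ⊥ := (eq_bot_iff_forall _).mpr fun b hb => F.faith b (hE1 hb) fun q hq =>
      (mem_centralizer_iff.mp (hEQ hb) q hq).symm
    rw [this, card_bot] at hE1c
    exact absurd hE1c (not_le.mpr (Nat.one_lt_pow (by norm_num) hp.out.one_lt))
  obtain ⟨y₁, hy1, hyfix1, hymov1, hxy1⟩ := hpair E₁ hE1 hE1c x₁ hx1 hfix1 hmov1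
  obtain ⟨y₂, hy2, hyfix2, hymov2, hxy2⟩ := hpair E₂ hE2 hE2c x₂ hx2 hfix2 hmov2
  -- `E₁ ⊔ E₂ = B`
  have hsup : E₁ ⊔ E₂ = B := by
    refine Subgroup.eq_of_le_of_card_ge (sup_le hE1 hE2) (hE1m.trans ?_)
    obtain ⟨i, hi⟩ := IsPGroup.iff_card.mp (F.isPGroup_B.to_le (sup_le hE1 hE2))
    obtain ⟨j, hj⟩ := IsPGroup.iff_card.mp (F.isPGroup_B.to_le hE1)
    have hlt : Nat.card E₁ < Nat.card ↥(E₁ ⊔ E₂) :=
      lt_of_le_of_ne (card_le_of_le le_sup_left) fun hh =>
        hne ((le_sup_right (a := E₁)).trans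
          (Subgroup.eq_of_le_of_card_ge le_sup_left hh.ge).ge)
    rw [hi, hj] at hlt ⊢
    rw [← pow_succ']
    exact Nat.pow_le_pow_right hp.out.pos ((Nat.pow_lt_pow_iff_right hp.out.one_lt).mp hlt)
  have hcross : ∀ u w : G, u ∈ (M : Subgroup G) → w ∈ (M : Subgroup G) →
      (∀ e ∈ E₁, Commute e u) → (∀ e ∈ E₂, Commute e w) → Commute u w := by
    intro u w hu hw hfu hfw
    -- the fixed points of `E₁` in `M`, as a subgroup
    set X := (M : Subgroup G) ⊓ centralizer (E₁ : Set G) with hX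
    have hXM : X ≤ M := inf_le_left
    have hE2X : E₂ ≤ normalizer (X : Set G) := fun e he => mem_normalizer_of_forall fun x hx => by
      obtain ⟨hxM, hxE⟩ := mem_inf.mp hx
      refine mem_inf.mpr ⟨conj_mem_of_mem_normalizer (F.B_norm_M (hE2 he)) hxM,
        mem_centralizer_iff.mpr fun f hf => ?_⟩
      have hfe : Commute f e := congrArg Subtype.val (F.comm.is_comm.comm ⟨f, hE1 hf⟩ ⟨e, hE2 he⟩)
      have hfx : Commute f x := mem_centralizer_iff.mp hxE f hf
      exact ((hfe.mul_right hfx).mul_right hfe.inv_right).eq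
    have hle : ⁅X, E₂⁆ ≤ centralizer ({w} : Set G) :=
      commutator_le_centralizer hfw hE2X fun x hx e he =>
        F.fixes_commutator hp2 hw (hXM hx) (hE2 he)
    have huX : u ∈ X := mem_inf.mpr ⟨hu, mem_centralizer_iff.mpr fun e he => (hfu e he).eq⟩
    obtain ⟨n, hn, c, hc, rfl⟩ := Coprime.exists_commutator_mul_fixed hE2X
      (F.coprime_sub hp2 hE2 (hXM.trans F.M_le))
      (Or.inl (Coprime.isSolvable_of_isPGroup (F.isPGroup_B.to_le hE2))) huX
    refine Commute.mul_left (mem_centralizer_singleton.mp (hle hn)).symm ?_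
    obtain ⟨hcX, hc2⟩ := mem_inf.mp hc
    have hcfix : ∀ b ∈ B, Commute b c := by
      intro b hb
      have : B ≤ centralizer ({c} : Set G) := by
        rw [← hsup, sup_le_iff]
        constructor <;> intro e he <;> rw [mem_centralizer_singleton]
        · exact (mem_centralizer_iff.mp (mem_inf.mp hcX).2 e he).symm
        · exact (mem_centralizer_iff.mp hc2 e he).symm
      exact (mem_centralizer_singleton.mp (this hb)).symm
    exact F.small_commute (F.small_of_fixed hp2 (hXM hcX) hcfix) (F.M_le hw)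
  obtain ⟨b, hb, hb1⟩ : ∃ b ∈ E₁ ⊓ E₂, b ≠ 1 := by
    by_contra h
    push Not at h
    have hdis : Disjoint E₁ E₂ := disjoint_iff.mpr ((eq_bot_iff_forall _).mpr h)
    have hinj : Function.Injective
        (fun x : E₁ × E₂ => (⟨x.1 * x.2, mul_mem (hE1 x.1.2) (hE2 x.2.2)⟩ : B)) :=
      fun a c hac => mul_injective_of_disjoint hdis (congrArg Subtype.val hac)
    have hc := Nat.card_le_card_of_injective _ hinj
    rw [Nat.card_prod] at hc
    have h1 : 0 < Nat.card E₁ := Nat.card_pos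
    have h2 : Nat.card E₂ ≤ p := Nat.le_of_mul_le_mul_left
      ((hc.trans hE1m).trans_eq (mul_comm _ _)) h1
    exact absurd (hE2c.trans h2) (not_le.mpr (by
      nth_rw 1 [← pow_one p]
      exact Nat.pow_lt_pow_right hp.out.one_lt (by norm_num)))
  obtain ⟨hb1', hb2'⟩ := mem_inf.mp hb
  exact ⟨b, hE1 hb1', hb1, x₁, y₁, x₂, y₂, hx1, hy1, hx2, hy2,
    hfix1 b hb1', hyfix1 b hb1', hfix2 b hb2', hyfix2 b hb2',
    hsq E₁ hE1 hE1c x₁ hx1 hfix1 hmov1, hsq E₁ hE1 hE1c y₁ hy1 hyfix1 hymov1,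
    hsq E₂ hE2 hE2c x₂ hx2 hfix2 hmov2, hsq E₂ hE2 hE2c y₂ hy2 hyfix2 hymov2,
    hcross _ _ hx1 hx2 hfix1 hfix2, hcross _ _ hx1 hy2 hfix1 hyfix2,
    hcross _ _ hy1 hx2 hyfix1 hfix2, hcross _ _ hy1 hy2 hyfix1 hyfix2, hxy1, hxy2⟩

end Frame

end Cfsg.Agent.Lib.TwoPType
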